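import Mathlib
import Cfsg.Prelude.Def_LieExceptional
set_option linter.all false
/-!
Abstract buildings (given by their Weyl-distance) for the proof of Tits' theorem S1143.
Common definitions: everybody working on S1143 imports this file.
-/

set_option autoImplicit false

namespace Cfsg.Agent.Tits.Core

variable {I : Type*} {M : CoxeterMatrix I} {W : Type*} [Group W]

/-- A building of type `cs` on the set `C` of chambers, given by its `W`-valued distance `δ`
(right-handed convention: a gallery `x = x₀, x₁, …, xₙ = y` of reduced type `(i₁,…,iₙ)` has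
`δ x y = s_{i₁} ⋯ s_{iₙ}`). -/
structure Bldg (cs : CoxeterSystem M W) (C : Type*) where
  /-- Weyl distance -/
  δ : C → C → W
  eq_one : ∀ x y, δ x y = 1 ↔ x = y
  symm : ∀ x y, δ y x = (δ x y)⁻¹
  step : ∀ x y z i, δ y z = cs.simple i → δ x z = δ x y * cs.simple i ∨ δ x z = δ x y
  step_lt : ∀ x y z i, δ y z = cs.simple i →
    cs.length (δ x y) < cs.length (δ x y * cs.simple i) → δ x z = δ x y * cs.simple i
  exists_step : ∀ x y i, ∃ z, δ y z = cs.simple i ∧ δ x z = δ x y * cs.simple i

/-- Standard parabolic subgroup `W_J`. -/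
def WJ (cs : CoxeterSystem M W) (J : Set I) : Subgroup W := Subgroup.closure (cs.simple '' J)

/-- `w` is the longest element of `W_J`. -/
def IsLongest (cs : CoxeterSystem M W) (J : Set I) (w : W) : Prop :=
  w ∈ WJ cs J ∧ ∀ v ∈ WJ cs J, cs.length (w * v) + cs.length v = cs.length w ∧
    cs.length (v * w) + cs.length v = cs.length w

open Classical in
/-- The longest element of `W_J` (junk value `1` if there is none, i.e. if `W_J` is infinite). -/
noncomputable def wJ (cs : CoxeterSystem M W) (J : Set I) : W :=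
  if h : ∃ w, IsLongest cs J w then h.choose else 1

/-- The longest element of `W`. -/
noncomputable def w0 (cs : CoxeterSystem M W) : W := wJ cs Set.univ

open Classical in
/-- The opposition involution on the index set: `s (op i) = w₀ s_i w₀`. -/
noncomputable def op (cs : CoxeterSystem M W) (i : I) : I :=
  if h : ∃ j, cs.simple j = w0 cs * cs.simple i * w0 cs then h.choose else i

namespace Bldg

variable {cs : CoxeterSystem M W} {C C' : Type*}

/-- Thick: every panel has at least three chambers. -/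
def Thick (Δ : Bldg cs C) : Prop :=
  ∀ x i, ∃ y z, y ≠ z ∧ Δ.δ x y = cs.simple i ∧ Δ.δ x z = cs.simple i

/-- The `J`-residue of `x`. -/
def Res (Δ : Bldg cs C) (J : Set I) (x : C) : Set C := {y | Δ.δ x y ∈ WJ cs J}

/-- The `i`-panel of `x`. -/
def Pan (Δ : Bldg cs C) (i : I) (x : C) : Set C := {y | y = x ∨ Δ.δ x y = cs.simple i}

/-- The union of the panels of `x`. -/
def E1 (Δ : Bldg cs C) (x : C) : Set C := {y | ∃ i, y ∈ Δ.Pan i x}

/-- The union of the residues of rank two of `x`. -/
def E2 (Δ : Bldg cs C) (x : C) : Set C := {y | ∃ i j, y ∈ Δ.Res {i, j} x}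

/-- `p` is the projection (gate) of `u` on the `J`-residue of `x`. -/
def IsProj (Δ : Bldg cs C) (J : Set I) (x u p : C) : Prop :=
  p ∈ Δ.Res J x ∧ ∀ a ∈ Δ.Res J x, Δ.δ u a = Δ.δ u p * Δ.δ p a ∧
    cs.length (Δ.δ u a) = cs.length (Δ.δ u p) + cs.length (Δ.δ p a)

open Classical in
/-- The projection of `u` on the `J`-residue of `x`. -/
noncomputable def proj (Δ : Bldg cs C) (J : Set I) (x u : C) : C :=
  if h : ∃ p, Δ.IsProj J x u p then h.choose else x

/-- `f` preserves `δ` on the set `X`. -/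
def IsoOn (Δ : Bldg cs C) (Δ' : Bldg cs C') (f : C → C') (X : Set C) : Prop :=
  ∀ a ∈ X, ∀ b ∈ X, Δ'.δ (f a) (f b) = Δ.δ a b

/-- `f` is a 2-isometry at `x`: it preserves `δ` on each residue of rank two of `x`. -/
def Iso2 (Δ : Bldg cs C) (Δ' : Bldg cs C') (f : C → C') (x : C) : Prop :=
  ∀ i j, Δ.IsoOn Δ' f (Δ.Res {i, j} x)

/-- opposite chambers -/
def Opp (Δ : Bldg cs C) (x y : C) : Prop := Δ.δ x y = w0 cs

/-- A group acting on a building: by isometries, transitively on pairs with given distance, faithfully. -/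
structure StrongAct (Δ : Bldg cs C) (G : Type*) [Group G] [MulAction G C] : Prop where
  iso : ∀ (g : G) x y, Δ.δ (g • x) (g • y) = Δ.δ x y
  trans : ∀ x y x' y', Δ.δ x y = Δ.δ x' y' → ∃ g : G, g • x = x' ∧ g • y = y'
  faithful : FaithfulSMul G C

/-- The `i`-th parameter `q` of a building: every `i`-panel has exactly `q + 1` chambers. -/
def Param (Δ : Bldg cs C) (i : I) (q : ℕ) : Prop := ∀ x, Nat.card (Δ.Pan i x) = q + 1

/-- Isometry of buildings (same type). -/
def Isometric (Δ : Bldg cs C) (Δ' : Bldg cs C') : Prop :=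
  ∃ f : C ≃ C', ∀ x y, Δ'.δ (f x) (f y) = Δ.δ x y

end Bldg

/-- The (B,N)-pair `P` has type `M` through the bijection `e` from the index set to the set of
distinguished representatives. -/
def BNType {G : Type*} [Group G] (P : Cfsg.BNPair G) (M : CoxeterMatrix I) (e : I ≃ P.S) : Prop :=
  ∃ _ : ((P.B ⊓ P.N).subgroupOf P.N).Normal,
  ∃ cs : CoxeterSystem M (P.N ⧸ (P.B ⊓ P.N).subgroupOf P.N),
    ∀ i, cs.simple i = QuotientGroup.mk (⟨(e i : G), P.subset (e i).2⟩ : P.N)

/-- Data of a model group: a (B,N)-pair of type `M` with parameters `q i`, with `B = U (B ⊓ N)`,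
`U` a normal `p`-subgroup of `B` and `|B ⊓ N|` prime to `p`. -/
structure ModelBN (G : Type*) [Group G] (M : CoxeterMatrix I) (q : I → ℕ) (p : ℕ) where
  P : Cfsg.BNPair G
  e : I ≃ P.S
  type : BNType P M e
  /-- `|B : B ∩ s B s⁻¹| = q i` -/
  param : ∀ i, (P.B ⊓ (P.B.map (MulAut.conj (e i : G)).toMonoidHom)).relIndex P.B = q i
  U : Subgroup G
  U_le : U ≤ P.B
  U_normal : ∀ b ∈ P.B, ∀ u ∈ U, b * u * b⁻¹ ∈ U
  U_p : IsPGroup p U
  sup_eq : U ⊔ (P.B ⊓ P.N) = P.B
  coprime : (Nat.card ↥(P.B ⊓ P.N)).Coprime p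

end Cfsg.Agent.Tits.Core
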