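import Mathlib
import Cfsg.Agent.Tits.Core
import Cfsg.Agent.Tits.Exchange
import Cfsg.Agent.LieRecognition.CoxForm
set_option linter.all false
/-!
Projections and opposite residues of a building of spherical type (S1143, route E, part E1).

All theorems on buildings have the instance argument `[Cox cs]`, which is found automatically from
`[Finite I] [Finite W]`.
-/

set_option autoImplicit false
set_option linter.unusedSectionVars false

namespace Cfsg.Agent.Tits.OppRes

open Cfsg.Agent.Tits.Core Cfsg.Agent.Tits.Core.Bldg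

variable {I : Type*} {M : CoxeterMatrix I} {W : Type*} [Group W] {cs : CoxeterSystem M W}

/-- The facts on (finite) Coxeter groups which are used. -/
class Cox (cs : CoxeterSystem M W) : Prop where
  add_right : ∀ (J : Set I) (w : W), (∀ j ∈ J, cs.length w < cs.length (w * cs.simple j)) →
    ∀ v ∈ WJ cs J, cs.length (w * v) = cs.length w + cs.length v
  longest : ∀ J : Set I, IsLongest cs J (wJ cs J)
  descent_mem : ∀ (J : Set I) (v : W), v ∈ WJ cs J → ∀ k,
    cs.length (v * cs.simple k) < cs.length v → k ∈ J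
  inj : Function.Injective cs.simple

section Coxeter

instance instCox [Finite I] [Finite W] : Cox cs where
  add_right J w h v hv := (Exchange.isMinR_iff cs).2 h v hv
  longest J := Exchange.isLongest_wJ cs J
  inj := by
    classical
    have := Fintype.ofFinite I
    intro a b hab
    by_contra hne
    have h := LieRecognition.CoxForm.orderOf_eq cs a b
    rw [hab, cs.simple_mul_simple_self, orderOf_one] at h
    exact M.off_diagonal a b hne h.symm
  descent_mem J v hv k hk := by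
    classical
    have := Fintype.ofFinite I
    obtain ⟨ω, hω, hred, rfl⟩ := Exchange.exists_reduced_of_mem_WJ cs hv
    obtain ⟨j, hj, he⟩ := Exchange.exchange_right cs hk
    have h1 : cs.simple k ∈ WJ cs J := by
      have h2 : cs.wordProd (ω.eraseIdx j) ∈ WJ cs J :=
        Exchange.wordProd_mem_WJ cs fun i hi => hω i (List.mem_of_mem_eraseIdx hi)
      rw [← he] at h2
      have h3 := mul_mem (inv_mem hv) h2
      rwa [inv_mul_cancel_left] at h3
    obtain ⟨ω', hω', hred', he'⟩ := Exchange.exists_reduced_of_mem_WJ cs h1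
    have hlen := hred'.eq
    rw [he', cs.length_simple] at hlen
    obtain ⟨i, rfl⟩ := List.length_eq_one_iff.1 hlen.symm
    rw [cs.wordProd_singleton] at he'
    have hik : i = k := by
      by_contra hne
      have h := LieRecognition.CoxForm.orderOf_eq cs i k
      rw [he', cs.simple_mul_simple_self, orderOf_one] at h
      exact M.off_diagonal i k hne h.symm
    rw [← hik]
    exact hω' i (by simp)

theorem simple_mem_WJ {J : Set I} {j : I} (hj : j ∈ J) : cs.simple j ∈ WJ cs J :=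
  Subgroup.subset_closure ⟨j, hj, rfl⟩

theorem WJ_mono {J K : Set I} (h : K ⊆ J) : WJ cs K ≤ WJ cs J :=
  Subgroup.closure_mono (Set.image_mono h)

theorem WJ_univ : WJ cs (Set.univ : Set I) = ⊤ := by
  rw [WJ, Set.image_univ]
  exact cs.subgroup_closure_range_simple

namespace Cox

variable (F : Cox cs)

include F

theorem exists_descent {J : Set I} {v : W} (hv : v ∈ WJ cs J) (h1 : v ≠ 1) :
    ∃ j ∈ J, cs.length (v * cs.simple j) < cs.length v := by
  by_contra hcon
  push Not at hcon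
  have h := F.add_right J v (fun j hj => lt_of_le_of_ne (hcon j hj)
    (cs.length_mul_simple_ne v j).symm) v⁻¹ (inv_mem hv)
  rw [mul_inv_cancel, cs.length_one, cs.length_inv] at h
  exact h1 (cs.length_eq_zero_iff.1 (by omega))

theorem wJ_mem (J : Set I) : wJ cs J ∈ WJ cs J := (F.longest J).1

theorem len_wJ_mul {J : Set I} {v : W} (hv : v ∈ WJ cs J) :
    cs.length (wJ cs J * v) + cs.length v = cs.length (wJ cs J) := ((F.longest J).2 v hv).1

theorem len_mul_wJ {J : Set I} {v : W} (hv : v ∈ WJ cs J) :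
    cs.length (v * wJ cs J) + cs.length v = cs.length (wJ cs J) := ((F.longest J).2 v hv).2

theorem wJ_mul_self (J : Set I) : wJ cs J * wJ cs J = 1 := by
  have h := F.len_wJ_mul (F.wJ_mem J)
  exact cs.length_eq_zero_iff.1 (by omega)

theorem wJ_inv (J : Set I) : (wJ cs J)⁻¹ = wJ cs J := inv_eq_of_mul_eq_one_left (F.wJ_mul_self J)

theorem len_w0_mul (v : W) : cs.length (w0 cs * v) + cs.length v = cs.length (w0 cs) :=
  F.len_wJ_mul (J := Set.univ) (by rw [WJ_univ]; trivial)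

theorem len_mul_w0 (v : W) : cs.length (v * w0 cs) + cs.length v = cs.length (w0 cs) :=
  F.len_mul_wJ (J := Set.univ) (by rw [WJ_univ]; trivial)

theorem w0_mul_self : w0 cs * w0 cs = 1 := F.wJ_mul_self Set.univ

theorem w0_inv : (w0 cs)⁻¹ = w0 cs := F.wJ_inv Set.univ

theorem len_conj_w0 (v : W) : cs.length (w0 cs * v * w0 cs) = cs.length v := by
  have h1 := F.len_mul_w0 (w0 cs * v)
  have h2 := F.len_w0_mul v
  omega

theorem op (i : I) : cs.simple (Core.op cs i) = w0 cs * cs.simple i * w0 cs := by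
  have h : cs.length (w0 cs * cs.simple i * w0 cs) = 1 := by
    rw [F.len_conj_w0, cs.length_simple]
  obtain ⟨j, hj⟩ := cs.length_eq_one_iff.1 h
  have hex : ∃ j, cs.simple j = w0 cs * cs.simple i * w0 cs := ⟨j, hj.symm⟩
  rw [Core.op, dif_pos hex]
  exact hex.choose_spec

theorem len_conj_wJ {J : Set I} {v : W} (hv : v ∈ WJ cs J) :
    cs.length (wJ cs J * v * wJ cs J) = cs.length v := by
  have h1 := F.len_mul_wJ (mul_mem (F.wJ_mem J) hv)
  have h2 := F.len_wJ_mul hv
  omega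

theorem conj_mem_op {J : Set I} {v : W} (hv : v ∈ WJ cs J) :
    w0 cs * v * w0 cs ∈ WJ cs (Core.op cs '' J) := by
  rw [WJ] at hv
  induction hv using Subgroup.closure_induction with
  | mem x hx =>
    obtain ⟨j, hj, rfl⟩ := hx
    rw [← F.op j]
    exact simple_mem_WJ ⟨j, hj, rfl⟩
  | one =>
    rw [mul_one, F.w0_mul_self]
    exact one_mem _
  | mul x y _ _ hx hy =>
    have : w0 cs * (x * y) * w0 cs = (w0 cs * x * w0 cs) * (w0 cs * y * w0 cs) := by
      have h := F.w0_mul_self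
      calc w0 cs * (x * y) * w0 cs = w0 cs * x * 1 * y * w0 cs := by group
        _ = w0 cs * x * (w0 cs * w0 cs) * y * w0 cs := by rw [h]
        _ = _ := by group
    rw [this]
    exact mul_mem hx hy
  | inv x _ hx =>
    have : w0 cs * x⁻¹ * w0 cs = (w0 cs * x * w0 cs)⁻¹ := by
      rw [mul_inv_rev, mul_inv_rev, F.w0_inv, mul_assoc]
    rw [this]
    exact inv_mem hx

theorem conj_mem_of_op {J : Set I} {v : W} (hv : v ∈ WJ cs (Core.op cs '' J)) :
    w0 cs * v * w0 cs ∈ WJ cs J := by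
  rw [WJ] at hv
  induction hv using Subgroup.closure_induction with
  | mem x hx =>
    obtain ⟨j, ⟨i, hi, rfl⟩, rfl⟩ := hx
    have h := F.w0_mul_self
    have : w0 cs * cs.simple (Core.op cs i) * w0 cs = cs.simple i := by
      rw [F.op i]
      calc w0 cs * (w0 cs * cs.simple i * w0 cs) * w0 cs
          = (w0 cs * w0 cs) * cs.simple i * (w0 cs * w0 cs) := by group
        _ = _ := by rw [h]; group
    rw [this]
    exact simple_mem_WJ hi
  | one =>
    rw [mul_one, F.w0_mul_self]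
    exact one_mem _
  | mul x y _ _ hx hy =>
    have : w0 cs * (x * y) * w0 cs = (w0 cs * x * w0 cs) * (w0 cs * y * w0 cs) := by
      have h := F.w0_mul_self
      calc w0 cs * (x * y) * w0 cs = w0 cs * x * 1 * y * w0 cs := by group
        _ = w0 cs * x * (w0 cs * w0 cs) * y * w0 cs := by rw [h]
        _ = _ := by group
    rw [this]
    exact mul_mem hx hy
  | inv x _ hx =>
    have : w0 cs * x⁻¹ * w0 cs = (w0 cs * x * w0 cs)⁻¹ := by
      rw [mul_inv_rev, mul_inv_rev, F.w0_inv, mul_assoc]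
    rw [this]
    exact inv_mem hx

end Cox

/-- The distance between a chamber of a residue of type `J` and its projection on the opposite residue. -/
noncomputable def dJ (cs : CoxeterSystem M W) (J : Set I) : W := wJ cs J * w0 cs

namespace Cox

variable (F : Cox cs)

include F

theorem len_mul_dJ {J : Set I} {z : W} (hz : z ∈ WJ cs J) :
    cs.length (z * dJ cs J) = cs.length z + cs.length (dJ cs J) := by
  have h1 := F.len_mul_w0 (z * wJ cs J)
  have h2 := F.len_mul_wJ hz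
  have h3 := F.len_mul_w0 (wJ cs J)
  have h4 : z * dJ cs J = z * wJ cs J * w0 cs := by rw [dJ, mul_assoc]
  rw [h4, dJ]
  omega

theorem dJ_conj_mem {J : Set I} {v : W} (hv : v ∈ WJ cs (Core.op cs '' J)) :
    dJ cs J * v * (dJ cs J)⁻¹ ∈ WJ cs J := by
  have h : dJ cs J * v * (dJ cs J)⁻¹ = wJ cs J * (w0 cs * v * w0 cs) * wJ cs J := by
    rw [dJ, mul_inv_rev, F.w0_inv, F.wJ_inv]
    group
  rw [h]
  exact mul_mem (mul_mem (F.wJ_mem J) (F.conj_mem_of_op hv)) (F.wJ_mem J)

theorem len_dJ_conj {J : Set I} {v : W} (hv : v ∈ WJ cs (Core.op cs '' J)) :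
    cs.length (dJ cs J * v * (dJ cs J)⁻¹) = cs.length v := by
  have h : dJ cs J * v * (dJ cs J)⁻¹ = wJ cs J * (w0 cs * v * w0 cs) * wJ cs J := by
    rw [dJ, mul_inv_rev, F.w0_inv, F.wJ_inv]
    group
  rw [h, F.len_conj_wJ (F.conj_mem_of_op hv), F.len_conj_w0]

theorem len_dJ_mul {J : Set I} {v : W} (hv : v ∈ WJ cs (Core.op cs '' J)) :
    cs.length (dJ cs J * v) = cs.length (dJ cs J) + cs.length v := by
  have h : dJ cs J * v = (dJ cs J * v * (dJ cs J)⁻¹) * dJ cs J := by group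
  rw [h, F.len_mul_dJ (F.dJ_conj_mem hv), F.len_dJ_conj hv, add_comm]

theorem dJ_inv_conj_mem {J : Set I} {v : W} (hv : v ∈ WJ cs J) :
    (dJ cs J)⁻¹ * v * dJ cs J ∈ WJ cs (Core.op cs '' J) := by
  have h : (dJ cs J)⁻¹ * v * dJ cs J = w0 cs * (wJ cs J * v * wJ cs J) * w0 cs := by
    rw [dJ, mul_inv_rev, F.w0_inv, F.wJ_inv]
    group
  rw [h]
  exact F.conj_mem_op (mul_mem (mul_mem (F.wJ_mem J) hv) (F.wJ_mem J))

theorem conj_cancel (v : W) : w0 cs * (w0 cs * v * w0 cs) * w0 cs = v := by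
  have h := F.w0_mul_self
  calc w0 cs * (w0 cs * v * w0 cs) * w0 cs = (w0 cs * w0 cs) * v * (w0 cs * w0 cs) := by group
    _ = v := by rw [h]; group

theorem WJ_op_op (J : Set I) : WJ cs (Core.op cs '' (Core.op cs '' J)) = WJ cs J := by
  apply le_antisymm
  · intro v hv
    have := F.conj_mem_of_op (F.conj_mem_of_op hv)
    rwa [F.conj_cancel] at this
  · intro v hv
    have := F.conj_mem_op (F.conj_mem_op hv)
    rwa [F.conj_cancel] at this

omit F in
theorem longest_unique {J : Set I} {w w' : W} (h : IsLongest cs J w) (h' : IsLongest cs J w') :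
    w = w' := by
  have h1 := (h.2 w' h'.1).1
  have h2 := (h'.2 w h.1).2
  have h3 : w * w' = 1 := cs.length_eq_zero_iff.1 (by omega)
  have h4 := (h'.2 w' h'.1).1
  have h5 : w' * w' = 1 := cs.length_eq_zero_iff.1 (by omega)
  calc w = w * (w' * w') := by rw [h5, mul_one]
    _ = (w * w') * w' := by group
    _ = w' := by rw [h3, one_mul]

/-- the opposition inside `W_J` -/
theorem exists_opJ {J : Set I} {j : I} (hj : j ∈ J) :
    ∃ k ∈ J, wJ cs J * cs.simple k = cs.simple j * wJ cs J := by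
  have h : cs.length (wJ cs J * cs.simple j * wJ cs J) = 1 := by
    rw [F.len_conj_wJ (simple_mem_WJ hj), cs.length_simple]
  obtain ⟨k, hk⟩ := cs.length_eq_one_iff.1 h
  have hk' : cs.simple k ∈ WJ cs J := by
    rw [← hk]
    exact mul_mem (mul_mem (F.wJ_mem J) (simple_mem_WJ hj)) (F.wJ_mem J)
  have hlt : cs.length (cs.simple k * cs.simple k) < cs.length (cs.simple k) := by
    rw [cs.simple_mul_simple_self, cs.length_one, cs.length_simple]
    exact Nat.one_pos
  refine ⟨k, F.descent_mem J _ hk' k hlt, ?_⟩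
  rw [← hk, ← mul_assoc, ← mul_assoc, F.wJ_mul_self, one_mul]

theorem WJ_inter {J L : Set I} {w : W} (hJ : w ∈ WJ cs J) (hL : w ∈ WJ cs L) :
    w ∈ WJ cs (J ∩ L) := by
  induction hn : cs.length w using Nat.strong_induction_on generalizing w with
  | _ n ih =>
    by_cases h1 : w = 1
    · rw [h1]; exact one_mem _
    obtain ⟨j, hj, hlt⟩ := F.exists_descent hJ h1
    have hjL : j ∈ L := F.descent_mem L w hL j hlt
    have h2 := ih (cs.length (w * cs.simple j)) (by omega)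
      (mul_mem hJ (simple_mem_WJ hj)) (mul_mem hL (simple_mem_WJ hjL)) rfl
    have h3 := mul_mem h2 (simple_mem_WJ (cs := cs) (J := J ∩ L) ⟨hj, hjL⟩)
    rwa [mul_assoc, cs.simple_mul_simple_self, mul_one] at h3

theorem eq_wJ_of_descents {J : Set I} {v : W} (hv : v ∈ WJ cs J)
    (h : ∀ j ∈ J, cs.length (v * cs.simple j) < cs.length v) : v = wJ cs J := by
  by_contra hne
  have h1 : wJ cs J * v ≠ 1 := by
    intro h1
    apply hne
    rw [← F.wJ_inv J]
    exact eq_inv_of_mul_eq_one_right h1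
  obtain ⟨j, hj, hlt⟩ := F.exists_descent (mul_mem (F.wJ_mem J) hv) h1
  have h2 := F.len_wJ_mul hv
  have h3 := F.len_wJ_mul (mul_mem hv (simple_mem_WJ hj))
  have h4 := h j hj
  rw [mul_assoc] at hlt
  omega

theorem isLongest_conj (J : Set I) : IsLongest cs (Core.op cs '' J) (w0 cs * wJ cs J * w0 cs) := by
  refine ⟨F.conj_mem_op (F.wJ_mem J), fun v hv => ?_⟩
  have hv' := F.conj_mem_of_op hv
  have h1 := F.len_wJ_mul hv'
  have h2 := F.len_mul_wJ hv'
  have e1 : w0 cs * (wJ cs J * (w0 cs * v * w0 cs)) * w0 cs = w0 cs * wJ cs J * w0 cs * v := by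
    have h := F.w0_mul_self
    calc w0 cs * (wJ cs J * (w0 cs * v * w0 cs)) * w0 cs
        = w0 cs * wJ cs J * w0 cs * v * (w0 cs * w0 cs) := by group
      _ = _ := by rw [h]; group
  have e2 : w0 cs * ((w0 cs * v * w0 cs) * wJ cs J) * w0 cs = v * (w0 cs * wJ cs J * w0 cs) := by
    have h := F.w0_mul_self
    calc w0 cs * ((w0 cs * v * w0 cs) * wJ cs J) * w0 cs
        = (w0 cs * w0 cs) * (v * (w0 cs * wJ cs J * w0 cs)) := by group
      _ = _ := by rw [h]; group
  have e3 := F.len_conj_w0 (wJ cs J * (w0 cs * v * w0 cs))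
  have e4 := F.len_conj_w0 ((w0 cs * v * w0 cs) * wJ cs J)
  have e5 := F.len_conj_w0 v
  have e6 := F.len_conj_w0 (wJ cs J)
  rw [e1] at e3
  rw [e2] at e4
  constructor <;> omega

theorem wJ_op (J : Set I) : wJ cs (Core.op cs '' J) = w0 cs * wJ cs J * w0 cs :=
  longest_unique (F.longest _) (F.isLongest_conj J)

theorem dJ_op (J : Set I) : dJ cs (Core.op cs '' J) = (dJ cs J)⁻¹ := by
  rw [dJ, dJ, F.wJ_op, mul_inv_rev, F.w0_inv, F.wJ_inv, mul_assoc, F.w0_mul_self, mul_one]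

theorem wJ_mul_dJ (J : Set I) : wJ cs J * dJ cs J = w0 cs := by
  rw [dJ, ← mul_assoc, F.wJ_mul_self, one_mul]

theorem dJ_eq (J : Set I) : dJ cs J = w0 cs * wJ cs (Core.op cs '' J) := by
  have h := F.dJ_op J
  have h2 : dJ cs J = (dJ cs (Core.op cs '' J))⁻¹ := by rw [h, inv_inv]
  rw [h2, dJ, mul_inv_rev, F.w0_inv, F.wJ_inv]

theorem dJ_descent {J : Set I} {k : I} (hk : k ∉ Core.op cs '' J) :
    cs.length (dJ cs J * cs.simple k) < cs.length (dJ cs J) := by
  rw [F.dJ_eq J, mul_assoc]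
  have h1 := F.len_w0_mul (wJ cs (Core.op cs '' J) * cs.simple k)
  have h2 := F.len_w0_mul (wJ cs (Core.op cs '' J))
  have h3 : cs.length (wJ cs (Core.op cs '' J)) <
      cs.length (wJ cs (Core.op cs '' J) * cs.simple k) := by
    refine lt_of_le_of_ne ?_ (cs.length_mul_simple_ne _ k).symm
    by_contra hlt
    exact hk (F.descent_mem _ _ (F.wJ_mem _) k (by omega))
  omega

theorem len_dJ_add (J : Set I) : cs.length (dJ cs J) + cs.length (wJ cs J) = cs.length (w0 cs) := by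
  have h := F.len_mul_dJ (F.wJ_mem J)
  rw [F.wJ_mul_dJ] at h
  omega

end Cox

end Coxeter

section Building

variable {C C' : Type*} {Δ : Bldg cs C} [F : Cox cs]

theorem delta_self (x : C) : Δ.δ x x = 1 := (Δ.eq_one x x).2 rfl

theorem delta_inv (x y : C) : (Δ.δ x y)⁻¹ = Δ.δ y x := (Δ.symm x y).symm

theorem len_symm (x y : C) : cs.length (Δ.δ y x) = cs.length (Δ.δ x y) := by
  rw [Δ.symm x y, cs.length_inv]

theorem delta_simple_symm {x y : C} {i : I} (h : Δ.δ x y = cs.simple i) : Δ.δ y x = cs.simple i := by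
  rw [Δ.symm x y, h, cs.inv_simple]

/-- Composition of distances when the lengths add. -/
theorem delta_comp {x y z : C}
    (h : cs.length (Δ.δ x y * Δ.δ y z) = cs.length (Δ.δ x y) + cs.length (Δ.δ y z)) :
    Δ.δ x z = Δ.δ x y * Δ.δ y z := by
  induction hn : cs.length (Δ.δ y z) generalizing z with
  | zero =>
    have h1 : Δ.δ y z = 1 := cs.length_eq_zero_iff.1 hn
    rw [h1, mul_one, (Δ.eq_one y z).1 h1]
  | succ n ih =>
    have hne : Δ.δ y z ≠ 1 := by
      intro h1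
      rw [h1, cs.length_one] at hn
      omega
    obtain ⟨i, hi⟩ := cs.exists_rightDescent_of_ne_one hne
    have hi' := cs.isRightDescent_iff.1 hi
    obtain ⟨z', hz', hyz'⟩ := Δ.exists_step y z i
    have hl : cs.length (Δ.δ x y * Δ.δ y z') = cs.length (Δ.δ x y) + cs.length (Δ.δ y z') := by
      rw [hyz', ← mul_assoc]
      have h1 := cs.length_mul_le (Δ.δ x y * Δ.δ y z * cs.simple i) (cs.simple i)
      rw [mul_assoc (Δ.δ x y * Δ.δ y z), cs.simple_mul_simple_self, mul_one,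
        cs.length_simple] at h1
      have h2 := cs.length_mul_le (Δ.δ x y) (Δ.δ y z * cs.simple i)
      rw [← mul_assoc] at h2
      omega
    have h3 := ih hl (by rw [hyz']; omega)
    have h4 : Δ.δ x z' * cs.simple i = Δ.δ x y * Δ.δ y z := by
      rw [h3, hyz', ← mul_assoc, mul_assoc (Δ.δ x y * Δ.δ y z), cs.simple_mul_simple_self, mul_one]
    rw [← h4]
    refine Δ.step_lt x z' z i (delta_simple_symm hz') ?_
    rw [h4, h, h3, hl, hyz']
    omega

theorem mem_Res_self (J : Set I) (x : C) : x ∈ Δ.Res J x := by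
  change Δ.δ x x ∈ WJ cs J
  rw [delta_self]
  exact one_mem _

theorem delta_coset {J : Set I} (x : C) {y z : C}
    (hyz : Δ.δ y z ∈ WJ cs J) : (Δ.δ x y)⁻¹ * Δ.δ x z ∈ WJ cs J := by
  induction hn : cs.length (Δ.δ y z) generalizing z with
  | zero =>
    have h1 : Δ.δ y z = 1 := cs.length_eq_zero_iff.1 hn
    rw [← (Δ.eq_one y z).1 h1, inv_mul_cancel]
    exact one_mem _
  | succ n ih =>
    have hne : Δ.δ y z ≠ 1 := by
      intro h1
      rw [h1, cs.length_one] at hn
      omega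
    obtain ⟨i, hiJ, hi⟩ := F.exists_descent hyz hne
    have hi' := cs.isRightDescent_iff.1 hi
    obtain ⟨z', hz', hyz'⟩ := Δ.exists_step y z i
    have h1 : (Δ.δ x y)⁻¹ * Δ.δ x z' ∈ WJ cs J := by
      refine ih ?_ ?_
      · rw [hyz']
        exact mul_mem hyz (simple_mem_WJ hiJ)
      · rw [hyz']
        omega
    rcases Δ.step x z' z i (delta_simple_symm hz') with h | h
    · rw [h, ← mul_assoc]
      exact mul_mem h1 (simple_mem_WJ hiJ)
    · rw [h]
      exact h1

theorem delta_mem_of_mem {J : Set I} {x y z : C} (hxy : Δ.δ x y ∈ WJ cs J)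
    (hyz : Δ.δ y z ∈ WJ cs J) : Δ.δ x z ∈ WJ cs J := by
  have h := mul_mem hxy (delta_coset x hyz)
  rwa [mul_inv_cancel_left] at h

theorem Res_eq {J : Set I} {x y : C} (h : y ∈ Δ.Res J x) : Δ.Res J y = Δ.Res J x := by
  have h' : Δ.δ x y ∈ WJ cs J := h
  ext z
  constructor
  · intro hz
    exact delta_mem_of_mem h' hz
  · intro hz
    refine delta_mem_of_mem (x := y) (y := x) ?_ hz
    rw [Δ.symm x y]
    exact inv_mem h'

theorem delta_mem_of_Res {J : Set I} {x y z : C} (hy : y ∈ Δ.Res J x)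
    (hz : z ∈ Δ.Res J x) : Δ.δ y z ∈ WJ cs J := by
  rw [← Res_eq hy] at hz
  exact hz

theorem exists_isProj (J : Set I) (x u : C) : ∃ p, Δ.IsProj J x u p := by
  classical
  have hex : ∃ n, ∃ p ∈ Δ.Res J x, cs.length (Δ.δ u p) = n := ⟨_, x, mem_Res_self J x, rfl⟩
  obtain ⟨p, hp, hpn⟩ := Nat.find_spec hex
  have hmin : ∀ a ∈ Δ.Res J x, cs.length (Δ.δ u p) ≤ cs.length (Δ.δ u a) := by
    intro a ha
    rw [hpn]
    exact Nat.find_min' hex ⟨a, ha, rfl⟩
  have hJ : ∀ j ∈ J, cs.length (Δ.δ u p) < cs.length (Δ.δ u p * cs.simple j) := by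
    intro j hj
    obtain ⟨p', hpp', hup'⟩ := Δ.exists_step u p j
    have hp' : p' ∈ Δ.Res J x :=
      delta_mem_of_mem (y := p) hp (by rw [hpp']; exact simple_mem_WJ hj)
    have := hmin p' hp'
    rw [hup'] at this
    exact lt_of_le_of_ne this (cs.length_mul_simple_ne _ j).symm
  refine ⟨p, hp, fun a ha => ?_⟩
  have h1 := F.add_right J _ hJ _ (delta_mem_of_Res hp ha)
  have h2 := delta_comp h1
  exact ⟨h2, by rw [h2, h1]⟩

theorem IsProj.unique {J : Set I} {x u p p' : C} (h : Δ.IsProj J x u p) (h' : Δ.IsProj J x u p') :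
    p = p' := by
  have h1 := (h.2 p' h'.1).2
  have h2 := (h'.2 p h.1).2
  exact (Δ.eq_one p p').1 (cs.length_eq_zero_iff.1 (by omega))

theorem isProj_proj (J : Set I) (x u : C) : Δ.IsProj J x u (Δ.proj J x u) := by
  have h := exists_isProj (Δ := Δ) J x u
  rw [Bldg.proj, dif_pos h]
  exact h.choose_spec

theorem proj_mem (J : Set I) (x u : C) : Δ.proj J x u ∈ Δ.Res J x :=
  (isProj_proj J x u).1

theorem eq_proj {J : Set I} {x u p : C} (h : Δ.IsProj J x u p) : Δ.proj J x u = p :=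
  IsProj.unique (isProj_proj J x u) h

theorem proj_congr {J : Set I} {x y : C} (h : y ∈ Δ.Res J x) (u : C) :
    Δ.proj J y u = Δ.proj J x u := by
  apply eq_proj
  have hp := isProj_proj (Δ := Δ) J x u
  have e := Res_eq h
  refine ⟨by rw [e]; exact hp.1, fun a ha => hp.2 a (by rw [← e]; exact ha)⟩

theorem proj_of_mem {J : Set I} {x u : C} (h : u ∈ Δ.Res J x) : Δ.proj J x u = u := by
  apply eq_proj
  refine ⟨h, fun a ha => ?_⟩
  rw [delta_self, one_mul, cs.length_one, zero_add]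
  exact ⟨rfl, rfl⟩

/-- transitivity of projections -/
theorem proj_trans {J K : Set I} (hKJ : K ⊆ J) {x a : C} (ha : a ∈ Δ.Res J x) (u : C) :
    Δ.proj K a u = Δ.proj K a (Δ.proj J x u) := by
  apply eq_proj
  have hp := isProj_proj (Δ := Δ) J x u
  have hq := isProj_proj (Δ := Δ) K a (Δ.proj J x u)
  have hsub : ∀ b, b ∈ Δ.Res K a → b ∈ Δ.Res J x := by
    intro b hb
    rw [← Res_eq ha]
    exact WJ_mono hKJ hb
  refine ⟨hq.1, fun b hb => ?_⟩
  have h1 := hp.2 b (hsub b hb)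
  have h2 := hp.2 _ (hsub _ hq.1)
  have h3 := hq.2 b hb
  refine ⟨?_, by omega⟩
  rw [h1.1, h3.1, h2.1, mul_assoc]


theorem isProj_of_min {J : Set I} {x u p : C} (hp : p ∈ Δ.Res J x)
    (hJ : ∀ j ∈ J, cs.length (Δ.δ u p) < cs.length (Δ.δ u p * cs.simple j)) :
    Δ.IsProj J x u p := by
  refine ⟨hp, fun a ha => ?_⟩
  have h1 := F.add_right J _ hJ _ (delta_mem_of_Res hp ha)
  have h2 := delta_comp h1
  exact ⟨h2, by rw [h2, h1]⟩

theorem IsProj.min {J : Set I} {x u p : C} (h : Δ.IsProj J x u p) {j : I}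
    (hj : j ∈ J) : cs.length (Δ.δ u p) < cs.length (Δ.δ u p * cs.simple j) := by
  obtain ⟨p', hpp', hup'⟩ := Δ.exists_step u p j
  have hp' : p' ∈ Δ.Res J x :=
    delta_mem_of_mem (y := p) h.1 (by rw [hpp']; exact simple_mem_WJ hj)
  have h2 := (h.2 p' hp').2
  rw [hup', hpp', cs.length_simple] at h2
  omega

theorem exists_delta (Δ : Bldg cs C) (x : C) (w : W) : ∃ y, Δ.δ x y = w := by
  induction w using cs.simple_induction_right with
  | one => exact ⟨x, delta_self x⟩
  | mul_simple_right w i ih =>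
    obtain ⟨y, hy⟩ := ih
    obtain ⟨z, _, hz⟩ := Δ.exists_step x y i
    exact ⟨z, by rw [hz, hy]⟩

/-- The residues of type `J` of `a` and of type `op J` of `u` are opposite. -/
def OppR (Δ : Bldg cs C) (J : Set I) (a u : C) : Prop := ∃ z ∈ WJ cs J, Δ.δ a u = z * dJ cs J

theorem OppR.of_opp (J : Set I) {x v : C} (h : Δ.Opp x v) : OppR Δ J x v := by
  refine ⟨wJ cs J, F.wJ_mem J, ?_⟩
  rw [F.wJ_mul_dJ]
  exact h

theorem OppR.symm {J : Set I} {a u : C} (h : OppR Δ J a u) :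
    OppR Δ (Core.op cs '' J) u a := by
  obtain ⟨z, hz, he⟩ := h
  refine ⟨(dJ cs J)⁻¹ * z⁻¹ * dJ cs J, F.dJ_inv_conj_mem (inv_mem hz), ?_⟩
  rw [F.dJ_op, Δ.symm a u, he]
  group

theorem OppR.left {J : Set I} {a a' u : C} (h : OppR Δ J a u)
    (ha : a' ∈ Δ.Res J a) : OppR Δ J a' u := by
  obtain ⟨z, hz, he⟩ := h
  have h1 := delta_coset (Δ := Δ) u (J := J) (y := a) (z := a') ha
  refine ⟨((Δ.δ u a)⁻¹ * Δ.δ u a')⁻¹ * z, mul_mem (inv_mem h1) hz, ?_⟩
  rw [mul_assoc, ← he, mul_inv_rev, inv_inv, ← Δ.symm u a', Δ.symm a u]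
  group

theorem OppR.right {J : Set I} {a u u' : C} (h : OppR Δ J a u)
    (hu : u' ∈ Δ.Res (Core.op cs '' J) u) : OppR Δ J a u' := by
  obtain ⟨z, hz, he⟩ := h
  have h1 := delta_coset (Δ := Δ) a (J := Core.op cs '' J) (y := u) (z := u') hu
  refine ⟨z * (dJ cs J * ((Δ.δ a u)⁻¹ * Δ.δ a u') * (dJ cs J)⁻¹), mul_mem hz (F.dJ_conj_mem h1), ?_⟩
  have : z * (dJ cs J * ((Δ.δ a u)⁻¹ * Δ.δ a u') * (dJ cs J)⁻¹) * dJ cs J =
    (z * dJ cs J) * ((Δ.δ a u)⁻¹ * Δ.δ a u') := by group
  rw [this, ← he]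
  group

theorem delta_proj_left {J : Set I} {a u : C} (h : OppR Δ J a u) :
    Δ.δ (Δ.proj J a u) u = dJ cs J := by
  have hp := isProj_proj (Δ := Δ) J a u
  obtain ⟨z, hz, he⟩ := h.left hp.1
  obtain ⟨b, hb⟩ := exists_delta Δ (Δ.proj J a u) z
  have hbR : b ∈ Δ.Res J a := delta_mem_of_mem (y := Δ.proj J a u) hp.1 (by rw [hb]; exact hz)
  have h1 := (hp.2 b hbR)
  have h2 : Δ.δ b u = dJ cs J := by
    rw [Δ.symm u b, h1.1, hb, Δ.symm (Δ.proj J a u) u, he]
    group
  have h3 := h1.2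
  rw [len_symm b u, h2, hb, len_symm (Δ.proj J a u) u, he, F.len_mul_dJ hz] at h3
  have h4 : z = 1 := cs.length_eq_zero_iff.1 (by omega)
  rw [he, h4, one_mul]

theorem delta_eq_left {J : Set I} {a u : C} (h : OppR Δ J a u) :
    Δ.δ a u = Δ.δ a (Δ.proj J a u) * dJ cs J := by
  have hp := isProj_proj (Δ := Δ) J a u
  have h1 := (hp.2 a (mem_Res_self J a)).1
  rw [Δ.symm u a, h1, mul_inv_rev, delta_inv, delta_inv, delta_proj_left h]

theorem delta_proj_right {J : Set I} {a u : C} (h : OppR Δ J a u) :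
    Δ.δ a (Δ.proj (Core.op cs '' J) u a) = dJ cs J := by
  have h1 := delta_proj_left (h.symm)
  rw [F.dJ_op] at h1
  rw [Δ.symm, h1, inv_inv]

theorem delta_eq_right {J : Set I} {a u : C} (h : OppR Δ J a u) :
    Δ.δ a u = dJ cs J * Δ.δ (Δ.proj (Core.op cs '' J) u a) u := by
  have h1 := delta_eq_left (h.symm)
  rw [Δ.symm u a, h1, F.dJ_op, mul_inv_rev, inv_inv, delta_inv]

theorem proj_eq_self_iff {J : Set I} {a u : C} (h : OppR Δ J a u) :
    Δ.proj J a u = a ↔ Δ.δ a u = dJ cs J := by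
  constructor
  · intro h1
    have h2 := delta_proj_left h
    rwa [h1] at h2
  · intro h1
    have h2 := delta_eq_left h
    rw [h1] at h2
    have h3 : Δ.δ a (Δ.proj J a u) = 1 := by
      have := congrArg (· * (dJ cs J)⁻¹) h2
      simpa using this.symm
    exact ((Δ.eq_one _ _).1 h3).symm

theorem proj_eq_self_iff' {J : Set I} {a u : C} (h : OppR Δ J a u) :
    Δ.proj (Core.op cs '' J) u a = u ↔ Δ.δ a u = dJ cs J := by
  rw [proj_eq_self_iff (h.symm), F.dJ_op, Δ.symm a u, inv_inj]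

theorem proj_proj {J : Set I} {a u : C} (h : OppR Δ J a u) :
    Δ.proj J a (Δ.proj (Core.op cs '' J) u a) = a := by
  rw [proj_eq_self_iff (h.right (proj_mem _ _ _))]
  exact delta_proj_right h

theorem proj_proj' {J : Set I} {a u : C} (h : OppR Δ J a u) :
    Δ.proj (Core.op cs '' J) u (Δ.proj J a u) = u := by
  rw [proj_eq_self_iff' (h.left (proj_mem _ _ _))]
  exact delta_proj_left h

/-- the projection between opposite residues is a twisted isometry -/
theorem twist {J : Set I} {a u u' : C} (h : OppR Δ J a u)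
    (hu : u' ∈ Δ.Res (Core.op cs '' J) u) :
    Δ.δ (Δ.proj J a u) (Δ.proj J a u') = dJ cs J * Δ.δ u u' * (dJ cs J)⁻¹ := by
  have hp : Δ.proj J a u ∈ Δ.Res J a := proj_mem _ _ _
  have h1 := delta_eq_left ((h.right hu).left hp)
  rw [proj_congr hp] at h1
  have h2 := delta_eq_right ((h.right hu).left hp)
  rw [proj_congr hu, proj_proj' h] at h2
  rw [← h2, h1]
  group

theorem twist' {J : Set I} {a a' u : C} (h : OppR Δ J a u)
    (ha : a' ∈ Δ.Res J a) :
    Δ.δ (Δ.proj (Core.op cs '' J) u a) (Δ.proj (Core.op cs '' J) u a') =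
      (dJ cs J)⁻¹ * Δ.δ a a' * dJ cs J := by
  have h0 : a' ∈ Δ.Res (Core.op cs '' (Core.op cs '' J)) a := by
    change Δ.δ a a' ∈ WJ cs (Core.op cs '' (Core.op cs '' J))
    rw [F.WJ_op_op]
    exact ha
  have h1 := twist (h.symm) h0
  rw [F.dJ_op, inv_inv] at h1
  exact h1

theorem opp_iff {J : Set I} {a u : C} (h : OppR Δ J a u) :
    Δ.Opp a u ↔ Δ.δ a (Δ.proj J a u) = wJ cs J := by
  rw [Bldg.Opp, delta_eq_left h, ← F.wJ_mul_dJ J, mul_left_inj]

theorem opp_iff' {J : Set I} {a u : C} (h : OppR Δ J a u) :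
    Δ.Opp a u ↔ Δ.δ (Δ.proj (Core.op cs '' J) u a) u = wJ cs (Core.op cs '' J) := by
  rw [Bldg.Opp, delta_eq_right h, F.dJ_eq, mul_assoc]
  constructor
  · intro h1
    have h2 : wJ cs (Core.op cs '' J) * Δ.δ (Δ.proj (Core.op cs '' J) u a) u = 1 := by
      have := congrArg (fun t => (w0 cs)⁻¹ * t) h1
      simpa using this
    rw [eq_inv_of_mul_eq_one_right h2, F.wJ_inv]
  · intro h1
    rw [h1, F.wJ_mul_self, mul_one]

/-- If `K ∩ op J = ∅`, all chambers of the `K`-residue of `u` have the same projection on the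
opposite residue of type `J`. -/
theorem proj_const {J K : Set I} {a u u' : C} (h : OppR Δ J a u)
    (hK : ∀ k ∈ K, k ∉ Core.op cs '' J) (hu : u' ∈ Δ.Res K u) :
    Δ.proj J a u' = Δ.proj J a u := by
  have hp : Δ.proj J a u ∈ Δ.Res J a := proj_mem _ _ _
  have hd : Δ.δ (Δ.proj J a u) u = dJ cs J := delta_proj_left h
  apply eq_proj
  set p := Δ.proj J a u with hpdef
  have hg := isProj_proj (Δ := Δ) K u p
  set g := Δ.proj K u p with hgdef
  have h1 := hg.2 u (mem_Res_self K u)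
  have h2 := hg.2 u' hu
  have hgK : Δ.δ g u ∈ WJ cs K := delta_mem_of_Res hg.1 (mem_Res_self K u)
  have hgK' : Δ.δ g u' ∈ WJ cs K := delta_mem_of_Res hg.1 hu
  have hw : Δ.δ g u = wJ cs K := by
    apply F.eq_wJ_of_descents hgK
    intro k hk
    have h3 := F.dJ_descent (hK k hk)
    have h4 := F.add_right K _ (fun j hj => IsProj.min hg hj) _
      (mul_mem hgK (simple_mem_WJ hk))
    rw [← mul_assoc, ← h1.1, hd] at h4
    have h5 := h1.2
    rw [hd] at h5
    omega
  apply isProj_of_min hp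
  intro j hj
  refine lt_of_le_of_ne ?_ (cs.length_mul_simple_ne _ j).symm
  by_contra hlt
  have h3 : Δ.δ u p * cs.simple j = (wJ cs K * Δ.δ g u') * (Δ.δ u' p * cs.simple j) := by
    have e1 : Δ.δ u p = (wJ cs K)⁻¹ * Δ.δ g p := by
      rw [Δ.symm p u, h1.1, mul_inv_rev, hw, delta_inv]
    have e2 : Δ.δ u' p = (Δ.δ g u')⁻¹ * Δ.δ g p := by
      rw [Δ.symm p u', h2.1, mul_inv_rev, delta_inv, delta_inv]
    rw [e1, e2, F.wJ_inv]
    group
  have h4 := cs.length_mul_le (wJ cs K * Δ.δ g u') (Δ.δ u' p * cs.simple j)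
  rw [← h3] at h4
  have h5 := F.len_wJ_mul hgK'
  have h6 : cs.length (Δ.δ u p * cs.simple j) = cs.length (dJ cs J) + 1 := by
    have e : Δ.δ u p * cs.simple j = (cs.simple j * dJ cs J)⁻¹ := by
      rw [mul_inv_rev, cs.inv_simple, ← hd, delta_inv]
    rw [e, cs.length_inv, F.len_mul_dJ (simple_mem_WJ hj), cs.length_simple]
    omega
  have h7 := h1.2
  have h8 := h2.2
  rw [hd, hw] at h7
  rw [len_symm u' p] at h8
  omega

/-- (T5e) -/
theorem T5e {J L : Set I} {a u v : C} (hu : Δ.Opp a u) (hv : Δ.Opp a v)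
    (huv : Δ.δ u v ∈ WJ cs (Core.op cs '' L)) :
    wJ cs J * Δ.δ (Δ.proj J a u) (Δ.proj J a v) * wJ cs J ∈ WJ cs (J ∩ L) := by
  have hRu : OppR Δ J a u := OppR.of_opp J hu
  have hRv : OppR Δ J a v := OppR.of_opp J hv
  have hpu : Δ.proj J a u ∈ Δ.Res J a := proj_mem _ _ _
  have hpv : Δ.proj J a v ∈ Δ.Res J a := proj_mem _ _ _
  apply F.WJ_inter
  · exact mul_mem (mul_mem (F.wJ_mem J) (delta_mem_of_Res hpu hpv)) (F.wJ_mem J)
  · have h1 : Δ.δ (Δ.proj J a u) v = Δ.δ (Δ.proj J a u) (Δ.proj J a v) * dJ cs J := by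
      have h := delta_eq_left (hRv.left hpu)
      rwa [proj_congr hpu] at h
    have h2 : Δ.δ (Δ.proj J a u) u = dJ cs J := delta_proj_left hRu
    have h3 := delta_coset (Δ := Δ) (Δ.proj J a u) huv
    rw [h2, h1] at h3
    have h4 := F.conj_mem_of_op h3
    have h5 : w0 cs * ((dJ cs J)⁻¹ * (Δ.δ (Δ.proj J a u) (Δ.proj J a v) * dJ cs J)) * w0 cs =
        wJ cs J * Δ.δ (Δ.proj J a u) (Δ.proj J a v) * wJ cs J := by
      have hw := F.w0_mul_self
      rw [dJ, mul_inv_rev, F.w0_inv, F.wJ_inv]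
      calc w0 cs * (w0 cs * wJ cs J * (Δ.δ (Δ.proj J a u) (Δ.proj J a v) *
            (wJ cs J * w0 cs))) * w0 cs
          = (w0 cs * w0 cs) * (wJ cs J * Δ.δ (Δ.proj J a u) (Δ.proj J a v) * wJ cs J) *
            (w0 cs * w0 cs) := by group
        _ = _ := by rw [hw, one_mul, mul_one]
    rwa [h5] at h4

/-- The projection on a `K`-subresidue from a chamber opposite `x` in the `J`-residue. -/
theorem delta_proj_of_long {J K : Set I} (hKJ : K ⊆ J) {x z : C} (h : Δ.δ x z = wJ cs J) :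
    Δ.δ z (Δ.proj K x z) = wJ cs J * wJ cs K := by
  have hp := isProj_proj (Δ := Δ) K x z
  have hzx : Δ.δ z x = wJ cs J := by rw [Δ.symm x z, h, F.wJ_inv]
  have h1 := delta_coset (Δ := Δ) z (J := K) (y := x) (z := Δ.proj K x z) hp.1
  rw [hzx] at h1
  have h2 : Δ.δ z (Δ.proj K x z) = wJ cs J * ((wJ cs J)⁻¹ * Δ.δ z (Δ.proj K x z)) := by group
  have h3 : (wJ cs J)⁻¹ * Δ.δ z (Δ.proj K x z) = wJ cs K := by
    apply F.eq_wJ_of_descents h1
    intro j hj
    have h4 := IsProj.min hp hj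
    have h5 := F.len_wJ_mul (WJ_mono hKJ h1)
    have h6 := F.len_wJ_mul (WJ_mono hKJ (mul_mem h1 (simple_mem_WJ hj)))
    rw [← h2] at h5
    rw [← mul_assoc, ← h2] at h6
    omega
  rw [h2, h3]

/-- (T5f) -/
theorem T5f {J K : Set I} (hKJ : K ⊆ J) {x z₁ z₂ : C} (h1 : Δ.δ x z₁ = wJ cs J)
    (h2 : Δ.δ x z₂ = wJ cs J) (h12 : wJ cs J * Δ.δ z₁ z₂ * wJ cs J ∈ WJ cs K)
    (hp : Δ.proj K x z₁ = Δ.proj K x z₂) : z₁ = z₂ := by
  have e1 := delta_proj_of_long hKJ h1
  have e2 := delta_proj_of_long hKJ h2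
  rw [← hp] at e2
  set q := Δ.proj K x z₁ with hq
  have e1' : Δ.δ q z₁ = wJ cs K * wJ cs J := by
    rw [Δ.symm z₁ q, e1, mul_inv_rev, F.wJ_inv, F.wJ_inv]
  have e2' : Δ.δ q z₂ = wJ cs K * wJ cs J := by
    rw [Δ.symm z₂ q, e2, mul_inv_rev, F.wJ_inv, F.wJ_inv]
  set t := wJ cs J * Δ.δ z₁ z₂ * wJ cs J with ht
  have hJJ := F.wJ_mul_self J
  have e3 : Δ.δ z₁ z₂ = wJ cs J * t * wJ cs J := by
    rw [ht]
    calc Δ.δ z₁ z₂ = (wJ cs J * wJ cs J) * Δ.δ z₁ z₂ * (wJ cs J * wJ cs J) := by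
          rw [hJJ, one_mul, mul_one]
      _ = _ := by group
  have e4 : Δ.δ q z₁ * Δ.δ z₁ z₂ = wJ cs K * t * wJ cs J := by
    rw [e1', e3]
    calc wJ cs K * wJ cs J * (wJ cs J * t * wJ cs J)
        = wJ cs K * (wJ cs J * wJ cs J) * t * wJ cs J := by group
      _ = _ := by rw [hJJ, mul_one]
  have l1 : cs.length (Δ.δ z₁ z₂) = cs.length t := by
    rw [e3, F.len_conj_wJ (WJ_mono hKJ h12)]
  have l2 := F.len_mul_wJ (J := J) (WJ_mono hKJ (mul_mem (F.wJ_mem K) h12))
  have l3 := F.len_wJ_mul h12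
  have l4 := F.len_mul_wJ (J := J) (WJ_mono hKJ (F.wJ_mem K))
  have e5 : Δ.δ q z₂ = Δ.δ q z₁ * Δ.δ z₁ z₂ := by
    apply delta_comp
    rw [e4, e1', l1]
    omega
  rw [e4, e2'] at e5
  have e6 : wJ cs K = wJ cs K * t := mul_right_cancel e5
  have e7 : t = 1 := by
    have := congrArg (fun y => (wJ cs K)⁻¹ * y) e6
    simpa using this.symm
  rw [e7, mul_one, hJJ] at e3
  exact (Δ.eq_one _ _).1 e3

variable {Δ' : Bldg cs C'}

/-- Isometries commute with projections. -/
theorem map_proj {J K : Set I} (hKJ : K ⊆ J) {x u : C} {α : C → C'}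
    (hα : Δ.IsoOn Δ' α (Δ.Res J x)) (hu : u ∈ Δ.Res J x) :
    α (Δ.proj K x u) = Δ'.proj K (α x) (α u) := by
  have hp := isProj_proj (Δ := Δ) K x u
  have hpJ : Δ.proj K x u ∈ Δ.Res J x := WJ_mono hKJ hp.1
  symm
  apply eq_proj
  apply isProj_of_min
  · change Δ'.δ (α x) (α (Δ.proj K x u)) ∈ WJ cs K
    rw [hα _ (mem_Res_self J x) _ hpJ]
    exact hp.1
  · intro j hj
    rw [hα _ hu _ hpJ]
    exact IsProj.min hp hj

end Building

end Cfsg.Agent.Tits.OppRes
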