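import Cfsg.Agent.Tits.Exchange
set_option linter.all false

/-!
Residues, the gate property and projections in a building (`Core.Bldg`).
-/

set_option autoImplicit false

open Cfsg.Agent.Tits.Exchange

namespace Cfsg.Agent.Tits.Core.Bldg

variable {I : Type*} {M : CoxeterMatrix I} {W : Type*} [Group W] {cs : CoxeterSystem M W}
  {C C' : Type*} (Δ : Bldg cs C) (Δ' : Bldg cs C')

local prefix:100 "ℓ" => cs.length

/-! ### Basic facts on the distance -/

theorem δ_self (x : C) : Δ.δ x x = 1 := (Δ.eq_one x x).2 rfl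

theorem eq_of_δ_eq_one {x y : C} (h : Δ.δ x y = 1) : x = y := (Δ.eq_one x y).1 h

theorem δ_symm_simple {x y : C} {i : I} (h : Δ.δ x y = cs.simple i) : Δ.δ y x = cs.simple i := by
  rw [Δ.symm x y, h, cs.inv_simple]

theorem length_δ_comm (x y : C) : ℓ (Δ.δ y x) = ℓ (Δ.δ x y) := by
  rw [Δ.symm x y, cs.length_inv]

theorem ne_of_δ_simple {x y : C} {i : I} (h : Δ.δ x y = cs.simple i) : x ≠ y := by
  rintro rfl
  rw [Δ.δ_self] at h
  have := congrArg cs.length h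
  rw [cs.length_one, cs.length_simple] at this
  omega

/-- Left version of `step`. -/
theorem step_left {x y z : C} {i : I} (h : Δ.δ x y = cs.simple i) :
    Δ.δ x z = cs.simple i * Δ.δ y z ∨ Δ.δ x z = Δ.δ y z := by
  rcases Δ.step z y x i (Δ.δ_symm_simple h) with h1 | h1
  · left
    rw [Δ.symm z x, h1, Δ.symm y z, mul_inv_rev, inv_inv, cs.inv_simple]
  · right
    rw [Δ.symm z x, h1, Δ.symm y z, inv_inv]

/-- Left version of `step_lt`. -/
theorem step_lt_left {x y z : C} {i : I} (h : Δ.δ x y = cs.simple i)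
    (hlt : ℓ (Δ.δ y z) < ℓ (cs.simple i * Δ.δ y z)) : Δ.δ x z = cs.simple i * Δ.δ y z := by
  have h1 : ℓ (Δ.δ z y) < ℓ (Δ.δ z y * cs.simple i) := by
    have h3 := cs.length_inv (cs.simple i * Δ.δ y z)
    rw [mul_inv_rev, cs.inv_simple] at h3
    rw [Δ.symm y z, cs.length_inv, h3]
    exact hlt
  have h2 := Δ.step_lt z y x i (Δ.δ_symm_simple h) h1
  rw [Δ.symm z x, h2, Δ.symm y z, mul_inv_rev, inv_inv, cs.inv_simple]

/-- Every element of `W` is a distance from a given chamber. -/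
theorem exists_δ (x : C) (w : W) : ∃ y, Δ.δ x y = w := by
  induction w using cs.simple_induction_right with
  | one => exact ⟨x, Δ.δ_self x⟩
  | mul_simple_right w i ih =>
    obtain ⟨y, hy⟩ := ih
    obtain ⟨z, _, hz⟩ := Δ.exists_step x y i
    exact ⟨z, by rw [hz, hy]⟩

/-- Distances multiply when lengths add. -/
theorem δ_mul {x y z : C} (h : ℓ (Δ.δ x y * Δ.δ y z) = ℓ (Δ.δ x y) + ℓ (Δ.δ y z)) :
    Δ.δ x z = Δ.δ x y * Δ.δ y z := by
  generalize hn : ℓ (Δ.δ y z) = n at h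
  induction n generalizing z with
  | zero =>
    rw [cs.length_eq_zero_iff] at hn
    rw [hn, mul_one, Δ.eq_of_δ_eq_one hn]
  | succ n ih =>
    have hne : Δ.δ y z ≠ 1 := fun h1 => by rw [h1, cs.length_one] at hn; omega
    obtain ⟨i, hi⟩ := cs.exists_rightDescent_of_ne_one hne
    rw [cs.isRightDescent_iff] at hi
    obtain ⟨z', hz, hz'⟩ := Δ.exists_step y z i
    rw [← hz'] at hi
    have h1 : ℓ (Δ.δ x y * Δ.δ y z * cs.simple i) + 1 = ℓ (Δ.δ x y * Δ.δ y z) ∨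
      ℓ (Δ.δ x y * Δ.δ y z * cs.simple i) = ℓ (Δ.δ x y * Δ.δ y z) + 1 :=
      (cs.length_mul_simple _ i).symm
    have h2 := cs.length_mul_le (Δ.δ x y) (Δ.δ y z')
    rw [hz', ← mul_assoc] at h2
    rw [hz'] at hi
    have h3 : Δ.δ x z' = Δ.δ x y * Δ.δ y z' := by
      apply ih
      · rw [hz']; omega
      · rw [hz', ← mul_assoc]; omega
    have h4 : Δ.δ x z = Δ.δ x z' * cs.simple i := by
      apply Δ.step_lt x z' z i (Δ.δ_symm_simple hz)
      rw [h3, hz', mul_assoc, mul_assoc, cs.simple_mul_simple_self, mul_one, ← mul_assoc]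
      omega
    rw [h4, h3, hz', mul_assoc, mul_assoc, cs.simple_mul_simple_self, mul_one]

/-- `δ_mul` with named values. -/
theorem δ_mul_of {x y z : C} {v w : W} (h1 : Δ.δ x y = v) (h2 : Δ.δ y z = w)
    (h : ℓ (v * w) = ℓ v + ℓ w) : Δ.δ x z = v * w := by
  subst h1 h2
  exact Δ.δ_mul h

/-- The coset lemma. -/
theorem δ_coset {J : Set I} (x : C) {y z : C} (h : Δ.δ y z ∈ WJ cs J) :
    (Δ.δ x y)⁻¹ * Δ.δ x z ∈ WJ cs J := by
  obtain ⟨ω, hω, hp⟩ := exists_word_of_mem_WJ cs h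
  clear h
  induction ω generalizing y with
  | nil =>
    rw [cs.wordProd_nil] at hp
    rw [Δ.eq_of_δ_eq_one hp.symm, inv_mul_cancel]
    exact one_mem _
  | cons i ω ih =>
    have hi : i ∈ J := hω i (by simp)
    obtain ⟨y', hy, hy'⟩ := Δ.exists_step z y i
    have h1 : cs.wordProd ω = Δ.δ y' z := by
      rw [Δ.symm z y', hy', Δ.symm y z, ← hp, cs.wordProd_cons]
      simp [mul_inv_rev, mul_assoc]
    have h2 := ih (fun j hj => hω j (by simp [hj])) h1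
    rcases Δ.step x y y' i hy with h3 | h3
    · rw [h3, mul_inv_rev, cs.inv_simple, mul_assoc] at h2
      have h4 := mul_mem (simple_mem_WJ cs hi) h2
      rwa [cs.simple_mul_simple_cancel_left] at h4
    · rwa [h3] at h2

theorem exists_mul_of_mem {J : Set I} (x : C) {y z : C} (h : Δ.δ y z ∈ WJ cs J) :
    ∃ t ∈ WJ cs J, Δ.δ x z = Δ.δ x y * t :=
  ⟨_, Δ.δ_coset x h, by group⟩

theorem δ_coset_left {J : Set I} {x y : C} (z : C) (h : Δ.δ x y ∈ WJ cs J) :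
    Δ.δ x z * (Δ.δ y z)⁻¹ ∈ WJ cs J := by
  have h1 := Δ.δ_coset z h
  rw [Δ.symm x z, Δ.symm y z, inv_inv] at h1
  exact h1

theorem exists_mul_of_mem_left {J : Set I} {x y : C} (z : C) (h : Δ.δ x y ∈ WJ cs J) :
    ∃ t ∈ WJ cs J, Δ.δ x z = t * Δ.δ y z :=
  ⟨_, Δ.δ_coset_left z h, by group⟩

/-! ### Residues -/

theorem mem_Res {J : Set I} {x y : C} : y ∈ Δ.Res J x ↔ Δ.δ x y ∈ WJ cs J := Iff.rfl

theorem self_mem_Res (J : Set I) (x : C) : x ∈ Δ.Res J x := by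
  rw [mem_Res, Δ.δ_self]
  exact one_mem _

theorem mem_Res_symm {J : Set I} {x y : C} (h : y ∈ Δ.Res J x) : x ∈ Δ.Res J y := by
  rw [mem_Res, Δ.symm x y]
  exact inv_mem h

theorem mem_Res_comm {J : Set I} {x y : C} : y ∈ Δ.Res J x ↔ x ∈ Δ.Res J y :=
  ⟨Δ.mem_Res_symm, Δ.mem_Res_symm⟩

theorem mem_Res_trans {J : Set I} {x y z : C} (h : y ∈ Δ.Res J x) (h' : z ∈ Δ.Res J y) :
    z ∈ Δ.Res J x := by
  obtain ⟨t, ht, h1⟩ := Δ.exists_mul_of_mem x h'
  rw [mem_Res, h1]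
  exact mul_mem h ht

theorem Res_eq_of_mem {J : Set I} {x y : C} (h : y ∈ Δ.Res J x) : Δ.Res J y = Δ.Res J x := by
  ext z
  exact ⟨Δ.mem_Res_trans h, Δ.mem_Res_trans (Δ.mem_Res_symm h)⟩

theorem δ_mem_of_mem_Res {J : Set I} {x y z : C} (h : y ∈ Δ.Res J x) (h' : z ∈ Δ.Res J x) :
    Δ.δ y z ∈ WJ cs J := Δ.mem_Res_trans (Δ.mem_Res_symm h) h'

theorem Res_mono {J K : Set I} (h : J ⊆ K) (x : C) : Δ.Res J x ⊆ Δ.Res K x :=
  fun _ hy => WJ_mono cs h hy

theorem Res_univ (x : C) : Δ.Res Set.univ x = Set.univ := by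
  ext y
  simp only [mem_Res, WJ_univ, Subgroup.mem_top, Set.mem_univ]

theorem Res_empty (x : C) : Δ.Res ∅ x = {x} := by
  ext y
  rw [mem_Res, WJ, Set.image_empty, Subgroup.closure_empty, Subgroup.mem_bot, Δ.eq_one,
    Set.mem_singleton_iff, eq_comm]

theorem mem_WJ_singleton {i : I} {w : W} : w ∈ WJ cs {i} ↔ w = 1 ∨ w = cs.simple i := by
  constructor
  · intro h
    obtain ⟨ω, hω, rfl⟩ := exists_word_of_mem_WJ cs h
    clear h
    induction ω with
    | nil => left; exact cs.wordProd_nil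
    | cons j ω ih =>
      have hj : j = i := hω j (by simp)
      subst hj
      rw [cs.wordProd_cons]
      rcases ih (fun k hk => hω k (by simp [hk])) with h | h
      · right; rw [h, mul_one]
      · left; rw [h, cs.simple_mul_simple_self]
  · rintro (rfl | rfl)
    · exact one_mem _
    · exact simple_mem_WJ cs rfl

theorem Pan_eq_Res (i : I) (x : C) : Δ.Pan i x = Δ.Res {i} x := by
  ext y
  rw [mem_Res, mem_WJ_singleton, Δ.eq_one, Pan, Set.mem_ofPred_eq, eq_comm]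

theorem mem_Pan {i : I} {x y : C} : y ∈ Δ.Pan i x ↔ y = x ∨ Δ.δ x y = cs.simple i := Iff.rfl

theorem self_mem_Pan (i : I) (x : C) : x ∈ Δ.Pan i x := Or.inl rfl

theorem mem_Pan_of_δ {i : I} {x y : C} (h : Δ.δ x y = cs.simple i) : y ∈ Δ.Pan i x := Or.inr h

theorem mem_Pan_symm {i : I} {x y : C} (h : y ∈ Δ.Pan i x) : x ∈ Δ.Pan i y := by
  rw [Pan_eq_Res] at h ⊢
  exact Δ.mem_Res_symm h

theorem mem_Pan_trans {i : I} {x y z : C} (h : y ∈ Δ.Pan i x) (h' : z ∈ Δ.Pan i y) :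
    z ∈ Δ.Pan i x := by
  rw [Pan_eq_Res] at h h' ⊢
  exact Δ.mem_Res_trans h h'

theorem Pan_eq_of_mem {i : I} {x y : C} (h : y ∈ Δ.Pan i x) : Δ.Pan i y = Δ.Pan i x := by
  rw [Pan_eq_Res] at h ⊢
  rw [Pan_eq_Res]
  exact Δ.Res_eq_of_mem h

theorem δ_eq_of_mem_Pan {i : I} {x y z : C} (h : y ∈ Δ.Pan i x) (h' : z ∈ Δ.Pan i x)
    (hne : y ≠ z) : Δ.δ y z = cs.simple i := by
  rcases Δ.mem_Pan_trans (Δ.mem_Pan_symm h) h' with h1 | h1
  · exact absurd h1.symm hne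
  · exact h1

theorem Pan_subset_Res {i : I} {J : Set I} (h : i ∈ J) (x : C) : Δ.Pan i x ⊆ Δ.Res J x := by
  rw [Pan_eq_Res]
  exact Δ.Res_mono (Set.singleton_subset_iff.2 h) x

theorem Pan_subset_E1 (i : I) (x : C) : Δ.Pan i x ⊆ Δ.E1 x := fun _ h => ⟨i, h⟩

theorem Res_subset_E2 (i j : I) (x : C) : Δ.Res {i, j} x ⊆ Δ.E2 x := fun _ h => ⟨i, j, h⟩

theorem E1_subset_E2 (x : C) : Δ.E1 x ⊆ Δ.E2 x := by
  rintro y ⟨i, h⟩
  exact ⟨i, i, Δ.Pan_subset_Res (by simp) x h⟩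

theorem self_mem_E2 [Nonempty I] (x : C) : x ∈ Δ.E2 x :=
  ⟨Classical.arbitrary I, Classical.arbitrary I, Δ.self_mem_Res _ x⟩

/-- A residue contains chambers at every distance in `W_J` from each of its chambers. -/
theorem exists_δ_mem_Res {J : Set I} {x y : C} (h : y ∈ Δ.Res J x) {w : W} (hw : w ∈ WJ cs J) :
    ∃ z ∈ Δ.Res J x, Δ.δ y z = w := by
  obtain ⟨z, hz⟩ := Δ.exists_δ y w
  exact ⟨z, Δ.mem_Res_trans h (by rw [mem_Res, hz]; exact hw), hz⟩

/-- From `u`, all elements of the coset `δ(u,y) W_J` are attained on the residue of `y`. -/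
theorem exists_δ_mul_mem_Res {J : Set I} {x y : C} (u : C) (h : y ∈ Δ.Res J x) {t : W}
    (ht : t ∈ WJ cs J) : ∃ z ∈ Δ.Res J x, Δ.δ u z = Δ.δ u y * t := by
  obtain ⟨ω, hω, rfl⟩ := exists_word_of_mem_WJ cs ht
  clear ht
  induction ω generalizing y with
  | nil => exact ⟨y, h, by rw [cs.wordProd_nil, mul_one]⟩
  | cons i ω ih =>
    obtain ⟨y', hy, hy'⟩ := Δ.exists_step u y i
    have hmem : y' ∈ Δ.Res J x :=
      Δ.mem_Res_trans h (Δ.Pan_subset_Res (hω i (by simp)) y (Δ.mem_Pan_of_δ hy))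
    obtain ⟨z, hz, hz'⟩ := ih hmem fun j hj => hω j (by simp [hj])
    exact ⟨z, hz, by rw [hz', hy', cs.wordProd_cons, mul_assoc]⟩

/-! ### Gates -/

variable {Δ} in
theorem IsProj.mem {J : Set I} {x u p : C} (h : Δ.IsProj J x u p) : p ∈ Δ.Res J x := h.1

variable {Δ} in
theorem IsProj.δ_eq {J : Set I} {x u p a : C} (h : Δ.IsProj J x u p) (ha : a ∈ Δ.Res J x) :
    Δ.δ u a = Δ.δ u p * Δ.δ p a := (h.2 a ha).1

variable {Δ} in
theorem IsProj.length_eq {J : Set I} {x u p a : C} (h : Δ.IsProj J x u p) (ha : a ∈ Δ.Res J x) :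
    ℓ (Δ.δ u a) = ℓ (Δ.δ u p) + ℓ (Δ.δ p a) := (h.2 a ha).2

theorem isProj_of_isMinR {J : Set I} {x u p : C} (hp : p ∈ Δ.Res J x)
    (h : IsMinR cs J (Δ.δ u p)) : Δ.IsProj J x u p := by
  refine ⟨hp, fun a ha => ?_⟩
  have h1 := h _ (Δ.δ_mem_of_mem_Res hp ha)
  have h2 := Δ.δ_mul h1
  exact ⟨h2, by rw [h2, h1]⟩

theorem isProj_of_min {J : Set I} {x u p : C} (hp : p ∈ Δ.Res J x)
    (h : ∀ t ∈ WJ cs J, ℓ (Δ.δ u p * t) = ℓ (Δ.δ u p) + ℓ t) : Δ.IsProj J x u p :=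
  Δ.isProj_of_isMinR hp h

variable {Δ} in
theorem IsProj.isMinR {J : Set I} {x u p : C} (h : Δ.IsProj J x u p) :
    IsMinR cs J (Δ.δ u p) := by
  intro t ht
  obtain ⟨a, ha, h1⟩ := Δ.exists_δ_mem_Res h.mem ht
  rw [← h1, ← h.δ_eq ha, h.length_eq ha]

theorem isProj_iff {J : Set I} {x u p : C} :
    Δ.IsProj J x u p ↔ p ∈ Δ.Res J x ∧ IsMinR cs J (Δ.δ u p) :=
  ⟨fun h => ⟨h.mem, h.isMinR⟩, fun h => Δ.isProj_of_isMinR h.1 h.2⟩

theorem exists_isProj (J : Set I) (x u : C) : ∃ p, Δ.IsProj J x u p := by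
  classical
  have hne : ∃ n, ∃ p ∈ Δ.Res J x, ℓ (Δ.δ u p) = n := ⟨_, x, Δ.self_mem_Res J x, rfl⟩
  obtain ⟨p, hp, hlen⟩ := Nat.find_spec hne
  refine ⟨p, Δ.isProj_of_isMinR hp ((isMinR_iff cs).2 fun i hi => ?_)⟩
  obtain ⟨z, hz, hz'⟩ := Δ.exists_step u p i
  have h1 : Nat.find hne ≤ ℓ (Δ.δ u z) :=
    Nat.find_min' hne ⟨z, Δ.mem_Res_trans hp (Δ.Pan_subset_Res hi p (Δ.mem_Pan_of_δ hz)), rfl⟩
  rw [hz', ← hlen] at h1
  exact lt_of_le_of_ne h1 (cs.length_mul_simple_ne _ i).symm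

variable {Δ} in
theorem IsProj.unique {J : Set I} {x u p p' : C} (h : Δ.IsProj J x u p)
    (h' : Δ.IsProj J x u p') : p = p' := by
  have h1 := h.length_eq h'.mem
  have h2 := h'.length_eq h.mem
  apply Δ.eq_of_δ_eq_one
  rw [← cs.length_eq_zero_iff]
  omega

theorem isProj_proj (J : Set I) (x u : C) : Δ.IsProj J x u (Δ.proj J x u) := by
  classical
  unfold proj
  rw [dif_pos (Δ.exists_isProj J x u)]
  exact (Δ.exists_isProj J x u).choose_spec

variable {Δ} in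
theorem IsProj.eq_proj {J : Set I} {x u p : C} (h : Δ.IsProj J x u p) : p = Δ.proj J x u :=
  h.unique (Δ.isProj_proj J x u)

theorem proj_eq_of_isProj {J : Set I} {x u p : C} (h : Δ.IsProj J x u p) : Δ.proj J x u = p :=
  h.eq_proj.symm

theorem proj_mem (J : Set I) (x u : C) : Δ.proj J x u ∈ Δ.Res J x := (Δ.isProj_proj J x u).mem

theorem δ_proj_mul {J : Set I} {x u a : C} (ha : a ∈ Δ.Res J x) :
    Δ.δ u a = Δ.δ u (Δ.proj J x u) * Δ.δ (Δ.proj J x u) a := (Δ.isProj_proj J x u).δ_eq ha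

theorem length_proj_add {J : Set I} {x u a : C} (ha : a ∈ Δ.Res J x) :
    ℓ (Δ.δ u a) = ℓ (Δ.δ u (Δ.proj J x u)) + ℓ (Δ.δ (Δ.proj J x u) a) :=
  (Δ.isProj_proj J x u).length_eq ha

theorem isMinR_δ_proj (J : Set I) (x u : C) : IsMinR cs J (Δ.δ u (Δ.proj J x u)) :=
  (Δ.isProj_proj J x u).isMinR

/-- Left-handed version: `δ a u = δ a p * δ p u` for `a` in the residue and `p` the projection. -/
theorem δ_mul_proj {J : Set I} {x u a : C} (ha : a ∈ Δ.Res J x) :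
    Δ.δ a u = Δ.δ a (Δ.proj J x u) * Δ.δ (Δ.proj J x u) u := by
  rw [Δ.symm u a, Δ.δ_proj_mul ha, mul_inv_rev, ← Δ.symm, ← Δ.symm]

theorem length_add_proj {J : Set I} {x u a : C} (ha : a ∈ Δ.Res J x) :
    ℓ (Δ.δ a u) = ℓ (Δ.δ a (Δ.proj J x u)) + ℓ (Δ.δ (Δ.proj J x u) u) := by
  rw [Δ.length_δ_comm u a, Δ.length_proj_add ha, Δ.length_δ_comm u, Δ.length_δ_comm a]
  omega

theorem isProj_congr {J : Set I} {x y u p : C} (h : y ∈ Δ.Res J x) :
    Δ.IsProj J y u p ↔ Δ.IsProj J x u p := by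
  unfold IsProj
  rw [Δ.Res_eq_of_mem h]

theorem proj_congr {J : Set I} {x y : C} (h : y ∈ Δ.Res J x) (u : C) :
    Δ.proj J y u = Δ.proj J x u :=
  Δ.proj_eq_of_isProj ((Δ.isProj_congr h).2 (Δ.isProj_proj J x u))

theorem isProj_self {J : Set I} {x u : C} (h : u ∈ Δ.Res J x) : Δ.IsProj J x u u := by
  refine ⟨h, fun a _ => ?_⟩
  rw [Δ.δ_self, one_mul, cs.length_one, zero_add]
  exact ⟨rfl, rfl⟩

theorem proj_of_mem {J : Set I} {x u : C} (h : u ∈ Δ.Res J x) : Δ.proj J x u = u :=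
  Δ.proj_eq_of_isProj (Δ.isProj_self h)

theorem proj_eq_self_iff {J : Set I} {x u : C} : Δ.proj J x u = u ↔ u ∈ Δ.Res J x :=
  ⟨fun h => h ▸ Δ.proj_mem J x u, Δ.proj_of_mem⟩

/-- Projections are nested. -/
theorem proj_proj {J K : Set I} (h : J ⊆ K) (x u : C) :
    Δ.proj J x (Δ.proj K x u) = Δ.proj J x u := by
  symm
  apply Δ.proj_eq_of_isProj
  have hJ := Δ.isProj_proj J x (Δ.proj K x u)
  have hK := Δ.isProj_proj K x u
  refine ⟨hJ.mem, fun a ha => ?_⟩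
  have h1 := hK.δ_eq (Δ.Res_mono h x ha)
  have h2 := hK.length_eq (Δ.Res_mono h x ha)
  have h3 := hK.δ_eq (Δ.Res_mono h x hJ.mem)
  have h4 := hK.length_eq (Δ.Res_mono h x hJ.mem)
  have h5 := hJ.δ_eq ha
  have h6 := hJ.length_eq ha
  constructor
  · rw [h1, h3, h5, mul_assoc]
  · omega

/-- The projection on a smaller residue, read from a chamber of the bigger residue. -/
theorem proj_proj' {J K : Set I} (h : J ⊆ K) {x y : C} (hy : y ∈ Δ.Res K x) (u : C) :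
    Δ.proj J y (Δ.proj K x u) = Δ.proj J y u := by
  rw [← Δ.proj_congr hy u]
  exact Δ.proj_proj h y u

variable {Δ Δ'} in
/-- Isometries of residues commute with projections. -/
theorem map_isProj {α : C → C'} {J K : Set I} {x u p : C} (hα : Δ.IsoOn Δ' α (Δ.Res K x))
    (h : J ⊆ K) (hu : u ∈ Δ.Res K x) (hp : Δ.IsProj J x u p) :
    Δ'.IsProj J (α x) (α u) (α p) := by
  have hpK := Δ.Res_mono h x hp.mem
  apply Δ'.isProj_of_isMinR
  · rw [mem_Res, hα x (Δ.self_mem_Res K x) p hpK]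
    exact hp.mem
  · rw [hα u hu p hpK]
    exact hp.isMinR

variable {Δ Δ'} in
theorem map_proj {α : C → C'} {J K : Set I} {x u : C} (hα : Δ.IsoOn Δ' α (Δ.Res K x))
    (h : J ⊆ K) (hu : u ∈ Δ.Res K x) : α (Δ.proj J x u) = Δ'.proj J (α x) (α u) :=
  (map_isProj hα h hu (Δ.isProj_proj J x u)).eq_proj

variable {Δ Δ'} in
/-- `map_proj` with the smaller residue based at another chamber `y` of the bigger one. -/
theorem map_proj' {α : C → C'} {J K : Set I} {x y u : C} (hα : Δ.IsoOn Δ' α (Δ.Res K x))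
    (h : J ⊆ K) (hy : y ∈ Δ.Res K x) (hu : u ∈ Δ.Res K x) :
    α (Δ.proj J y u) = Δ'.proj J (α y) (α u) := by
  have h1 : Δ.Res K y = Δ.Res K x := Δ.Res_eq_of_mem hy
  exact map_proj (x := y) (K := K) (h1 ▸ hα) h (h1 ▸ hu)

variable {Δ Δ'} in
/-- An isometry on a residue maps it into a residue. -/
theorem map_mem_Res {α : C → C'} {J K : Set I} {x a b : C} (hα : Δ.IsoOn Δ' α (Δ.Res K x))
    (ha : a ∈ Δ.Res K x) (hb : b ∈ Δ.Res K x) (h : b ∈ Δ.Res J a) :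
    α b ∈ Δ'.Res J (α a) := by
  rw [mem_Res, hα a ha b hb]
  exact h

variable {Δ Δ'} in
theorem IsoOn.injOn {α : C → C'} {X : Set C} (hα : Δ.IsoOn Δ' α X) : Set.InjOn α X := by
  intro a ha b hb h
  apply Δ.eq_of_δ_eq_one
  rw [← hα a ha b hb, h, Δ'.δ_self]

variable {Δ Δ'} in
theorem IsoOn.mono {α : C → C'} {X Y : Set C} (hα : Δ.IsoOn Δ' α Y) (h : X ⊆ Y) :
    Δ.IsoOn Δ' α X := fun a ha b hb => hα a (h ha) b (h hb)

/-! ### Thickness -/

variable {Δ} in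
theorem Thick.exists_third (h : Δ.Thick) {i : I} {x : C} (y z : C) :
    ∃ t ∈ Δ.Pan i x, t ≠ y ∧ t ≠ z := by
  obtain ⟨a, b, hab, ha, hb⟩ := h x i
  have hax := (Δ.ne_of_δ_simple ha).symm
  have hbx := (Δ.ne_of_δ_simple hb).symm
  by_cases h1 : x = y
  · by_cases h2 : a = z
    · exact ⟨b, Δ.mem_Pan_of_δ hb, h1 ▸ hbx, fun h3 => hab (h2.trans h3.symm)⟩
    · exact ⟨a, Δ.mem_Pan_of_δ ha, h1 ▸ hax, h2⟩
  · by_cases h2 : x = z
    · by_cases h3 : a = y
      · exact ⟨b, Δ.mem_Pan_of_δ hb, fun h4 => hab (h3.trans h4.symm), h2 ▸ hbx⟩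
      · exact ⟨a, Δ.mem_Pan_of_δ ha, h3, h2 ▸ hax⟩
    · exact ⟨x, Δ.self_mem_Pan i x, h1, h2⟩

/-! ### Galleries -/

/-- Two chambers of the same `J`-residue are joined by a gallery of type in `J`. -/
theorem exists_gallery {J : Set I} {x y : C} (h : y ∈ Δ.Res J x) :
    Relation.ReflTransGen (fun a b => ∃ i ∈ J, Δ.δ a b = cs.simple i) x y := by
  obtain ⟨ω, hω, hp⟩ := exists_word_of_mem_WJ cs h
  clear h
  induction ω generalizing x with
  | nil =>
    rw [cs.wordProd_nil] at hp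
    rw [Δ.eq_of_δ_eq_one hp.symm]
  | cons i ω ih =>
    have hi : i ∈ J := hω i (by simp)
    obtain ⟨x', hx, hx'⟩ := Δ.exists_step y x i
    have h1 : cs.wordProd ω = Δ.δ x' y := by
      rw [Δ.symm y x', hx', Δ.symm x y, ← hp, cs.wordProd_cons]
      simp [mul_inv_rev, mul_assoc]
    exact Relation.ReflTransGen.head ⟨i, hi, hx⟩ (ih (fun j hj => hω j (by simp [hj])) h1)

/-- Induction along galleries inside a residue. -/
theorem Res_induction {J : Set I} {x : C} {p : C → Prop} (h0 : p x)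
    (hs : ∀ y ∈ Δ.Res J x, ∀ z, ∀ i ∈ J, Δ.δ y z = cs.simple i → p y → p z) {y : C}
    (hy : y ∈ Δ.Res J x) : p y := by
  have h1 := Δ.exists_gallery hy
  clear hy
  suffices h : y ∈ Δ.Res J x ∧ p y from h.2
  induction h1 with
  | refl => exact ⟨Δ.self_mem_Res J x, h0⟩
  | tail _ h2 ih =>
    obtain ⟨i, hi, h3⟩ := h2
    exact ⟨Δ.mem_Res_trans ih.1 (Δ.Pan_subset_Res hi _ (Δ.mem_Pan_of_δ h3)), hs _ ih.1 _ i hi h3 ih.2⟩

/-- A chamber on a minimal gallery: if `δ x z = v w` with lengths adding, there is `y` with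
`δ x y = v`, `δ y z = w`. -/
theorem exists_between {x z : C} {v w : W} (h : Δ.δ x z = v * w) (hl : ℓ (v * w) = ℓ v + ℓ w) :
    ∃ y, Δ.δ x y = v ∧ Δ.δ y z = w := by
  generalize hn : ℓ w = n at hl
  induction n generalizing w z with
  | zero =>
    rw [cs.length_eq_zero_iff] at hn
    subst hn
    exact ⟨z, by rw [h, mul_one], Δ.δ_self z⟩
  | succ n ih =>
    have hne : w ≠ 1 := fun h1 => by rw [h1, cs.length_one] at hn; omega
    obtain ⟨i, hi⟩ := cs.exists_rightDescent_of_ne_one hne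
    rw [cs.isRightDescent_iff] at hi
    obtain ⟨z', hz, hz'⟩ := Δ.exists_step x z i
    rw [h, mul_assoc] at hz'
    have h1 := cs.length_mul_simple (v * w) i
    rw [mul_assoc] at h1
    have h2 := cs.length_mul_le v (w * cs.simple i)
    obtain ⟨y, hy, hy'⟩ := ih hz' (by omega) (by omega)
    refine ⟨y, hy, ?_⟩
    rw [Δ.step_lt y z' z i (Δ.δ_symm_simple hz)]
    · rw [hy', cs.simple_mul_simple_cancel_right]
    · rw [hy', cs.simple_mul_simple_cancel_right]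
      omega

/-- The chamber on a minimal gallery with a given distance is unique. -/
theorem between_unique {x z y y' : C} {v w : W} (hl : ℓ (v * w) = ℓ v + ℓ w)
    (h1 : Δ.δ x y = v) (h2 : Δ.δ y z = w) (h1' : Δ.δ x y' = v) (h2' : Δ.δ y' z = w) : y = y' := by
  generalize hn : ℓ w = n at hl
  induction n generalizing w z with
  | zero =>
    rw [cs.length_eq_zero_iff] at hn
    subst hn
    rw [Δ.eq_of_δ_eq_one h2, Δ.eq_of_δ_eq_one h2']
  | succ n ih =>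
    have hne : w ≠ 1 := fun h1 => by rw [h1, cs.length_one] at hn; omega
    obtain ⟨i, hi⟩ := cs.exists_rightDescent_of_ne_one hne
    rw [cs.isRightDescent_iff] at hi
    have h3 := cs.length_mul_simple (v * w) i
    rw [mul_assoc] at h3
    have h4 := cs.length_mul_le v (w * cs.simple i)
    have h5 : w = w * cs.simple i * cs.simple i := by rw [cs.simple_mul_simple_cancel_right]
    have h6 : ℓ (w * cs.simple i * cs.simple i) = ℓ (w * cs.simple i) + ℓ (cs.simple i) := by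
      rw [← h5, cs.length_simple, hi]
    obtain ⟨z1, hz1, hz1'⟩ := Δ.exists_between (h2.trans h5) h6
    obtain ⟨z2, hz2, hz2'⟩ := Δ.exists_between (h2'.trans h5) h6
    have h7 : Δ.δ x z1 = v * (w * cs.simple i) := Δ.δ_mul_of h1 hz1 (by omega)
    have h8 : Δ.δ x z2 = v * (w * cs.simple i) := Δ.δ_mul_of h1' hz2 (by omega)
    have h9 : z1 = z2 := by
      by_contra hne'
      have h10 : Δ.δ z1 z2 = cs.simple i :=
        Δ.δ_eq_of_mem_Pan (Δ.mem_Pan_symm (Δ.mem_Pan_of_δ hz1'))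
          (Δ.mem_Pan_symm (Δ.mem_Pan_of_δ hz2')) hne'
      have h11 := Δ.step_lt x z1 z2 i h10 (by
        rw [h7, mul_assoc, cs.simple_mul_simple_cancel_right]
        omega)
      rw [h7, h8, mul_assoc, cs.simple_mul_simple_cancel_right] at h11
      have h12 := congrArg cs.length h11
      omega
    subst h9
    exact ih hz1 hz2 (by omega) (by omega)

end Cfsg.Agent.Tits.Core.Bldg
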