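import Cfsg.Agent.Tits.Core
import Cfsg.Agent.Tits.Exchange
import Cfsg.Agent.LieRecognition.CoxForm
set_option linter.all false

-- part: Tits/RankTwoPath
section
/-!
Rank two lemma for the proof of Tits' extension theorem (route E of S1143).

Let `y₀, …, y_m` and `y'₀, …, y'_m` be the two galleries of types `(i,j,i,…)` and `(j,i,j,…)`
between two chambers which are opposite in a residue of type `{i,j}`, `m = m_{ij} ∈ {2,3,4}`, in a thick
building. Then there are chambers `v`, `v'` of the residue, `v` opposite to all `y_a`, `v'` opposite to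
all `y'_a`, joined by a gallery all of whose chambers are opposite to `y₀` and to `y_m`.
-/

set_option autoImplicit false

namespace Cfsg.Agent.Tits.RankTwoPath

open Cfsg.Agent.Tits.Core

variable {I : Type*} {M : CoxeterMatrix I} {W : Type*} [Group W] {cs : CoxeterSystem M W} {C : Type*}

section basics

variable (Δ : Bldg cs C)

theorem delta_self (x : C) : Δ.δ x x = 1 := (Δ.eq_one x x).2 rfl

theorem delta_ne {x y : C} {i : I} (h : Δ.δ x y = cs.simple i) : x ≠ y := by
  rintro rfl
  rw [delta_self] at h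
  have := cs.length_simple i
  rw [← h, cs.length_one] at this
  omega

theorem symm_simple {x y : C} {i : I} (h : Δ.δ x y = cs.simple i) : Δ.δ y x = cs.simple i := by
  rw [Δ.symm x y, h, cs.inv_simple]

/-- two chambers in a common panel -/
theorem panel {x y z : C} {i : I} (hy : Δ.δ x y = cs.simple i) (hz : Δ.δ x z = cs.simple i)
    (hne : y ≠ z) : Δ.δ y z = cs.simple i := by
  have h := Δ.step y x z i hz
  rw [symm_simple Δ hy] at h
  rcases h with h | h
  · rw [cs.simple_mul_simple_self] at h
    exact absurd ((Δ.eq_one _ _).1 h) hne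
  · exact h

theorem up {x y z : C} {i : I} {u : W} (hxy : Δ.δ x y = u) (hyz : Δ.δ y z = cs.simple i)
    (hl : cs.length (u * cs.simple i) = cs.length u + 1) : Δ.δ x z = u * cs.simple i := by
  have := Δ.step_lt x y z i hyz (by rw [hxy]; omega)
  rw [this, hxy]

theorem up_left {x y z : C} {i : I} {u : W} (hxy : Δ.δ x y = cs.simple i) (hyz : Δ.δ y z = u)
    (hl : cs.length (cs.simple i * u) = cs.length u + 1) : Δ.δ x z = cs.simple i * u := by
  have h1 : Δ.δ z y = u⁻¹ := by rw [Δ.symm y z, hyz]
  have h2 : Δ.δ z x = u⁻¹ * cs.simple i := by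
    refine up Δ h1 (symm_simple Δ hxy) ?_
    have : u⁻¹ * cs.simple i = (cs.simple i * u)⁻¹ := by rw [mul_inv_rev, cs.inv_simple]
    rw [this, cs.length_inv, cs.length_inv, hl]
  rw [Δ.symm z x, h2, mul_inv_rev, inv_inv, cs.inv_simple]

/-- a third chamber of a panel -/
theorem third (hth : Δ.Thick) {x y : C} {i : I} (h : Δ.δ x y = cs.simple i) :
    ∃ z, Δ.δ x z = cs.simple i ∧ Δ.δ y z = cs.simple i := by
  obtain ⟨a, b, hab, ha, hb⟩ := hth x i
  by_cases hay : a = y
  · refine ⟨b, hb, ?_⟩
    exact panel Δ h hb (fun hyb => hab (by rw [hay, hyb]))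
  · exact ⟨a, ha, panel Δ h ha (Ne.symm hay)⟩

end basics

/-- opposite (at distance `w`) -/
def Far (Δ : Bldg cs C) (w : W) (x y : C) : Prop := Δ.δ x y = w

/-- The conclusion of the rank two lemma. -/
def Conn (Δ : Bldg cs C) (i j : I) (w : W) (x y : C) (v v' : C) : Prop :=
  Relation.ReflTransGen (fun a b => (Δ.δ a b = cs.simple i ∨ Δ.δ a b = cs.simple j) ∧
    (Δ.δ x a = w ∧ Δ.δ y a = w) ∧ (Δ.δ x b = w ∧ Δ.δ y b = w)) v v'

section two

variable {i j : I}

theorem two (Δ : Bldg cs C) (hth : Δ.Thick) (hb : cs.simple i * cs.simple j = cs.simple j * cs.simple i)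
    (hl : cs.length (cs.simple i * cs.simple j) = 2) {y0 y1 y2 z1 : C}
    (h01 : Δ.δ y0 y1 = cs.simple i) (h12 : Δ.δ y1 y2 = cs.simple j)
    (k01 : Δ.δ y0 z1 = cs.simple j) (k12 : Δ.δ z1 y2 = cs.simple i) :
    ∃ v, Δ.δ y0 v = cs.simple i * cs.simple j ∧ Δ.δ y1 v = cs.simple i * cs.simple j ∧
      Δ.δ y2 v = cs.simple i * cs.simple j ∧ Δ.δ z1 v = cs.simple i * cs.simple j := by
  set s := cs.simple i with hs
  set t := cs.simple j with ht
  have ls : cs.length s = 1 := cs.length_simple i
  have lt : cs.length t = 1 := cs.length_simple j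
  have lts : cs.length (t * s) = 2 := by rw [← hb, hl]
  have ss : s * s = 1 := cs.simple_mul_simple_self i
  have tt : t * t = 1 := cs.simple_mul_simple_self j
  obtain ⟨a, ha0, ha1⟩ := third Δ hth h01
  -- `a` is opposite `y2` and `z1`
  have h2a : Δ.δ y2 a = t * s := up Δ (symm_simple Δ h12) ha1 (by rw [lts, lt])
  have hz1a : Δ.δ z1 a = t * s := up Δ (symm_simple Δ k01) ha0 (by rw [lts, lt])
  obtain ⟨k, hak, h2k⟩ := Δ.exists_step y2 a j
  rw [h2a, ← hb, mul_assoc, tt, mul_one] at h2k
  obtain ⟨v, hav, hkv⟩ := third Δ hth hak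
  have hzk : Δ.δ z1 k = s := by
    by_cases hzk : z1 = k
    · exfalso
      subst hzk
      have := symm_simple Δ hak
      rw [hz1a] at this
      have h2 := congrArg cs.length this
      rw [lts, lt] at h2
      omega
    · exact panel Δ (symm_simple Δ k12) h2k hzk
  refine ⟨v, up Δ ha0 hav (by rw [hl, ls]), up Δ ha1 hav (by rw [hl, ls]),
    up Δ h2k hkv (by rw [hl, ls]), up Δ hzk hkv (by rw [hl, ls])⟩

end two

section three

variable {i j : I}

theorem three (Δ : Bldg cs C) (hth : Δ.Thick)
    (hb : cs.simple i * cs.simple j * cs.simple i = cs.simple j * cs.simple i * cs.simple j)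
    (hl : cs.length (cs.simple i * cs.simple j * cs.simple i) = 3) {y0 y1 y2 y3 z1 z2 : C}
    (h01 : Δ.δ y0 y1 = cs.simple i) (h12 : Δ.δ y1 y2 = cs.simple j) (h23 : Δ.δ y2 y3 = cs.simple i)
    (k01 : Δ.δ y0 z1 = cs.simple j) (k12 : Δ.δ z1 z2 = cs.simple i) (k23 : Δ.δ z2 y3 = cs.simple j) :
    ∃ v f v', (Δ.δ y0 v = cs.simple i * cs.simple j * cs.simple i ∧
        Δ.δ y1 v = cs.simple i * cs.simple j * cs.simple i ∧
        Δ.δ y2 v = cs.simple i * cs.simple j * cs.simple i ∧
        Δ.δ y3 v = cs.simple i * cs.simple j * cs.simple i) ∧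
      (Δ.δ y0 f = cs.simple i * cs.simple j * cs.simple i ∧
        Δ.δ y3 f = cs.simple i * cs.simple j * cs.simple i) ∧
      (Δ.δ y0 v' = cs.simple i * cs.simple j * cs.simple i ∧
        Δ.δ z1 v' = cs.simple i * cs.simple j * cs.simple i ∧
        Δ.δ z2 v' = cs.simple i * cs.simple j * cs.simple i ∧
        Δ.δ y3 v' = cs.simple i * cs.simple j * cs.simple i) ∧
      Δ.δ v f = cs.simple j ∧ Δ.δ f v' = cs.simple i := by
  set s := cs.simple i with hs
  set t := cs.simple j with ht
  have ls : cs.length s = 1 := cs.length_simple i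
  have lt : cs.length t = 1 := cs.length_simple j
  have ss : s * s = 1 := cs.simple_mul_simple_self i
  have tt : t * t = 1 := cs.simple_mul_simple_self j
  have lsts : cs.length (s * t * s) = 3 := hl
  have ltst : cs.length (t * s * t) = 3 := by rw [← hb, hl]
  have lst : cs.length (s * t) = 2 := by
    have h1 := cs.length_mul_le (s * t) s
    have h2 := cs.length_mul_le s t
    omega
  have lts : cs.length (t * s) = 2 := by
    have h1 := cs.length_mul_le (t * s) t
    have h2 := cs.length_mul_le t s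
    omega
  obtain ⟨e, he1, he2⟩ := third Δ hth k12
  have h0e : Δ.δ y0 e = t * s := up Δ k01 he1 (by rw [lts, lt])
  have h3e : Δ.δ y3 e = t * s := up Δ (symm_simple Δ k23) he2 (by rw [lts, lt])
  have h1e : Δ.δ y1 e = s * t * s := by
    rw [mul_assoc]
    exact up_left Δ (symm_simple Δ h01) h0e (by rw [← mul_assoc, lsts, lts])
  have h2e : Δ.δ y2 e = s * t * s := by
    rw [mul_assoc]
    exact up_left Δ h23 h3e (by rw [← mul_assoc, lsts, lts])
  -- the gate `f` of `y1` (and `y2`) on the `j`-panel of `e`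
  obtain ⟨f, hef, h1f⟩ := Δ.exists_step y1 e j
  rw [← ht, h1e, hb, mul_assoc (t * s), tt, mul_one] at h1f
  -- first step of the gallery from `y1` to `f`
  obtain ⟨g, hfg, h1g⟩ := Δ.exists_step y1 f i
  rw [← hs, h1f, mul_assoc, ss, mul_one] at h1g
  have hgf : Δ.δ g f = s := symm_simple Δ hfg
  have h2g : Δ.δ y2 g = t := by
    by_cases h : y2 = g
    · exfalso
      subst h
      have h3 : Δ.δ y2 e = s * t := up Δ hgf (symm_simple Δ hef) (by rw [lst, ls])
      rw [h2e] at h3
      have := congrArg cs.length h3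
      rw [lsts, lst] at this
      omega
    · exact panel Δ h12 h1g h
  have h2f : Δ.δ y2 f = t * s := up Δ h2g hgf (by rw [lts, lt])
  obtain ⟨v, hev, hfv⟩ := third Δ hth hef
  obtain ⟨v', hfv', hgv'⟩ := third Δ hth hfg
  have h0f : Δ.δ y0 f = s * t * s := by
    rw [hb]; exact up Δ h0e hef (by rw [ltst, lts])
  have h3f : Δ.δ y3 f = s * t * s := by
    rw [hb]; exact up Δ h3e hef (by rw [ltst, lts])
  have h0g : Δ.δ y0 g = s * t := up Δ h01 h1g (by rw [lst, ls])
  have h3g : Δ.δ y3 g = s * t := up Δ (symm_simple Δ h23) h2g (by rw [lst, ls])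
  have hz1f : Δ.δ z1 f = s * t := up Δ he1 hef (by rw [lst, ls])
  have hz2f : Δ.δ z2 f = s * t := up Δ he2 hef (by rw [lst, ls])
  refine ⟨v, f, v', ⟨?_, ?_, ?_, ?_⟩, ⟨h0f, h3f⟩, ⟨?_, ?_, ?_, ?_⟩, symm_simple Δ hfv, hfv'⟩
  · rw [hb]; exact up Δ h0e hev (by rw [ltst, lts])
  · rw [hb]; exact up Δ h1f hfv (by rw [ltst, lts])
  · rw [hb]; exact up Δ h2f hfv (by rw [ltst, lts])
  · rw [hb]; exact up Δ h3e hev (by rw [ltst, lts])
  · exact up Δ h0g hgv' (by rw [lsts, lst])
  · exact up Δ hz1f hfv' (by rw [lsts, lst])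
  · exact up Δ hz2f hfv' (by rw [lsts, lst])
  · exact up Δ h3g hgv' (by rw [lsts, lst])

end three

section four

variable {i j : I}

theorem four (Δ : Bldg cs C) (hth : Δ.Thick)
    (hb : cs.simple i * cs.simple j * cs.simple i * cs.simple j =
      cs.simple j * cs.simple i * cs.simple j * cs.simple i)
    (hl : cs.length (cs.simple i * cs.simple j * cs.simple i * cs.simple j) = 4)
    {y0 y1 y2 y3 y4 z1 z2 z3 : C}
    (h01 : Δ.δ y0 y1 = cs.simple i) (h12 : Δ.δ y1 y2 = cs.simple j) (h23 : Δ.δ y2 y3 = cs.simple i)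
    (h34 : Δ.δ y3 y4 = cs.simple j)
    (k01 : Δ.δ y0 z1 = cs.simple j) (k12 : Δ.δ z1 z2 = cs.simple i) (k23 : Δ.δ z2 z3 = cs.simple j)
    (k34 : Δ.δ z3 y4 = cs.simple i) :
    ∃ v v', (Δ.δ y0 v = cs.simple i * cs.simple j * cs.simple i * cs.simple j ∧
        Δ.δ y1 v = cs.simple i * cs.simple j * cs.simple i * cs.simple j ∧
        Δ.δ y2 v = cs.simple i * cs.simple j * cs.simple i * cs.simple j ∧
        Δ.δ y3 v = cs.simple i * cs.simple j * cs.simple i * cs.simple j ∧
        Δ.δ y4 v = cs.simple i * cs.simple j * cs.simple i * cs.simple j) ∧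
      (Δ.δ y0 v' = cs.simple i * cs.simple j * cs.simple i * cs.simple j ∧
        Δ.δ z1 v' = cs.simple i * cs.simple j * cs.simple i * cs.simple j ∧
        Δ.δ z2 v' = cs.simple i * cs.simple j * cs.simple i * cs.simple j ∧
        Δ.δ z3 v' = cs.simple i * cs.simple j * cs.simple i * cs.simple j ∧
        Δ.δ y4 v' = cs.simple i * cs.simple j * cs.simple i * cs.simple j) ∧
      (v = v' ∨ Δ.δ v v' = cs.simple i) := by
  set s := cs.simple i with hs
  set t := cs.simple j with ht
  have ls : cs.length s = 1 := cs.length_simple i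
  have lt : cs.length t = 1 := cs.length_simple j
  have ss : s * s = 1 := cs.simple_mul_simple_self i
  have tt : t * t = 1 := cs.simple_mul_simple_self j
  have lstst : cs.length (s * t * s * t) = 4 := hl
  have ltsts : cs.length (t * s * t * s) = 4 := by rw [← hb, hl]
  have lst : cs.length (s * t) = 2 := by
    have h1 := cs.length_mul_le (s * t) (s * t)
    have h2 := cs.length_mul_le s t
    rw [← mul_assoc] at h1
    omega
  have lts : cs.length (t * s) = 2 := by
    have h1 := cs.length_mul_le (t * s) (t * s)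
    have h2 := cs.length_mul_le t s
    rw [← mul_assoc] at h1
    omega
  have lsts : cs.length (s * t * s) = 3 := by
    have h1 := cs.length_mul_le (s * t * s) t
    have h2 := cs.length_mul_le (s * t) s
    omega
  have ltst : cs.length (t * s * t) = 3 := by
    have h1 := cs.length_mul_le (t * s * t) s
    have h2 := cs.length_mul_le (t * s) t
    omega
  obtain ⟨e, h0e, hz1e⟩ := third Δ hth k01
  have h4z1 : Δ.δ y4 z1 = s * t * s := by
    have a1 : Δ.δ y4 z2 = s * t := up Δ (symm_simple Δ k34) (symm_simple Δ k23) (by rw [lst, ls])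
    exact up Δ a1 (symm_simple Δ k12) (by rw [lsts, lst])
  have h4e : Δ.δ y4 e = s * t * s * t := up Δ h4z1 hz1e (by rw [lstst, lsts])
  -- gate `g` of `y4` on the `i`-panel of `e`
  obtain ⟨g, heg, h4g⟩ := Δ.exists_step y4 e i
  rw [← hs, h4e, hb, mul_assoc (t * s * t), ss, mul_one] at h4g
  -- gate `f` of `y4` on the `j`-panel of `g`
  obtain ⟨f, hgf, h4f⟩ := Δ.exists_step y4 g j
  rw [← ht, h4g, mul_assoc (t * s), tt, mul_one] at h4f
  obtain ⟨h, hfh, h4h⟩ := Δ.exists_step y4 f i
  rw [← hs, h4f, mul_assoc, ss, mul_one] at h4h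
  have hhf : Δ.δ h f = s := symm_simple Δ hfh
  obtain ⟨n, hgn, hfn⟩ := third Δ hth hgf
  have h0g : Δ.δ y0 g = t * s := up Δ h0e heg (by rw [lts, lt])
  have h0n : Δ.δ y0 n = t * s * t := up Δ h0g hgn (by rw [ltst, lts])
  have h0f : Δ.δ y0 f = t * s * t := up Δ h0g hgf (by rw [ltst, lts])
  have h1n : Δ.δ y1 n = s * t * s * t := by
    have := up_left Δ (symm_simple Δ h01) h0n (by
      rw [← hs, show s * (t * s * t) = s * t * s * t by group, lstst, ltst])
    rw [this]; rw [← hs]; group
  have h4n : Δ.δ y4 n = t * s * t := up Δ h4f hfn (by rw [ltst, lts])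
  have h02 : Δ.δ y0 y2 = s * t := up Δ h01 h12 (by rw [lst, ls])
  -- `h ≠ y3`
  have h3h : Δ.δ y3 h = t := by
    by_cases hh : y3 = h
    · exfalso
      subst hh
      by_cases h2f : y2 = f
      · subst h2f
        rw [h02] at h0f
        have := congrArg cs.length h0f
        rw [lst, ltst] at this
        omega
      · have h2f' : Δ.δ y2 f = s := panel Δ (symm_simple Δ h23) hhf h2f
        have h0f' : Δ.δ y0 f = s * t * s := up Δ h02 h2f' (by rw [lsts, lst])
        rw [h0f] at h0f'
        have : t * (t * s * t) * s = t * (s * t * s) * s := by rw [h0f']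
        have h2 : s * t * s = t * s * t := h0f'.symm
        have h3 : s * t * s * t = t * s := by
          rw [h2, mul_assoc (t * s), tt, mul_one]
        have := congrArg cs.length h3
        rw [lstst, lts] at this
        omega
    · exact panel Δ (symm_simple Δ h34) h4h hh
  have h3f : Δ.δ y3 f = t * s := up Δ h3h hhf (by rw [lts, lt])
  have h3n : Δ.δ y3 n = t * s * t := up Δ h3f hfn (by rw [ltst, lts])
  have h2n : Δ.δ y2 n = s * t * s * t := by
    have := up_left Δ h23 h3n (by
      rw [← hs, show s * (t * s * t) = s * t * s * t by group, lstst, ltst])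
    rw [this]; rw [← hs]; group
  have hz1g : Δ.δ z1 g = t * s := up Δ hz1e heg (by rw [lts, lt])
  have hz1n : Δ.δ z1 n = t * s * t := up Δ hz1g hgn (by rw [ltst, lts])
  have hz2n : Δ.δ z2 n = s * t * s * t := by
    have := up_left Δ (symm_simple Δ k12) hz1n (by
      rw [← hs, show s * (t * s * t) = s * t * s * t by group, lstst, ltst])
    rw [this]; rw [← hs]; group
  have hz3n : Δ.δ z3 n = s * t * s * t := by
    have := up_left Δ k34 h4n (by
      rw [← hs, show s * (t * s * t) = s * t * s * t by group, lstst, ltst])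
    rw [this]; rw [← hs]; group
  -- common gate of two `j`-adjacent chambers opposite `n` on the `i`-panel of `n`
  have key : ∀ a b : C, Δ.δ a b = t → Δ.δ a n = s * t * s * t → Δ.δ b n = s * t * s * t →
      ∃ c, Δ.δ n c = s ∧ ∀ v, Δ.δ c v = s → Δ.δ a v = s * t * s * t ∧ Δ.δ b v = s * t * s * t := by
    intro a b hab han hbn
    obtain ⟨c, hnc, hac⟩ := Δ.exists_step a n i
    rw [← hs, han, hb, mul_assoc (t * s * t), ss, mul_one] at hac
    have hbc : Δ.δ b c = t * s * t := by
      have hstep := Δ.step b n c i hnc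
      rw [← hs, hbn] at hstep
      rcases hstep with h' | h'
      · rw [h', hb, mul_assoc (t * s * t), ss, mul_one]
      · exfalso
        -- `δ b c = w` but `δ a c = tst`, `δ a b = t`
        have h2 := Δ.step c a b j hab
        have hca : Δ.δ c a = t * s * t := by
          rw [Δ.symm a c, hac]; simp [ht, hs, mul_assoc]
        have hcb : Δ.δ c b = s * t * s * t := by
          rw [Δ.symm b c, h']
          have : (s * t * s * t)⁻¹ = t * s * t * s := by simp [ht, hs, mul_assoc]
          rw [this, hb]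
        rw [← ht, hca, hcb] at h2
        rcases h2 with h2 | h2
        · have := congrArg cs.length h2
          rw [lstst, mul_assoc (t * s), tt, mul_one, lts] at this
          omega
        · have := congrArg cs.length h2
          rw [lstst, ltst] at this
          omega
    refine ⟨c, hnc, fun v hcv => ⟨?_, ?_⟩⟩
    · rw [hb]; exact up Δ hac hcv (by rw [ltsts, ltst])
    · rw [hb]; exact up Δ hbc hcv (by rw [ltsts, ltst])
  obtain ⟨c1, hnc1, hc1⟩ := key y1 y2 h12 h1n h2n
  obtain ⟨c3, hnc3, hc3⟩ := key z2 z3 k23 hz2n hz3n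
  obtain ⟨v, hnv, hc1v⟩ := third Δ hth hnc1
  obtain ⟨v', hnv', hc3v'⟩ := third Δ hth hnc3
  refine ⟨v, v', ⟨?_, (hc1 v hc1v).1, (hc1 v hc1v).2, ?_, ?_⟩,
    ⟨?_, ?_, (hc3 v' hc3v').1, (hc3 v' hc3v').2, ?_⟩, ?_⟩
  · rw [hb]; exact up Δ h0n hnv (by rw [ltsts, ltst])
  · rw [hb]; exact up Δ h3n hnv (by rw [ltsts, ltst])
  · rw [hb]; exact up Δ h4n hnv (by rw [ltsts, ltst])
  · rw [hb]; exact up Δ h0n hnv' (by rw [ltsts, ltst])
  · rw [hb]; exact up Δ hz1n hnv' (by rw [ltsts, ltst])
  · rw [hb]; exact up Δ h4n hnv' (by rw [ltsts, ltst])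
  · by_cases hvv : v = v'
    · exact Or.inl hvv
    · exact Or.inr (panel Δ hnv hnv' hvv)

end four

end Cfsg.Agent.Tits.RankTwoPath
end

-- part: Tits/Generic
section
/-!
Rank two facts for route E of S1143: the dihedral subgroups `W_{ij}` for `m_{ij} ∈ {2,3,4}`
(lengths of alternating products, the longest element), the generic panel and the generic path in a
residue of rank two of a thick building.
-/

set_option autoImplicit false

namespace Cfsg.Agent.Tits.Generic

open Cfsg.Agent.Tits.Core Cfsg.Agent.Tits.RankTwoPath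

variable {I : Type*} {M : CoxeterMatrix I} {W : Type*} [Group W] (cs : CoxeterSystem M W)

local notation "ℓ" => cs.length

/-- An element of `W_J` having all `i ∈ J` as left descents is the longest element of `W_J`. -/
theorem eq_wJ_of_descents {J : Set I} [Finite (WJ cs J)] {x : W} (hx : x ∈ WJ cs J)
    (h : ∀ k ∈ J, ℓ (cs.simple k * x) < ℓ x) : x = wJ cs J := by
  have hL := Exchange.isLongest_wJ cs J
  set w := wJ cs J with hw
  have h1 := (hL.2 x⁻¹ (inv_mem hx)).1
  rw [cs.length_inv] at h1
  have hmin : Exchange.IsMinR cs J (w * x⁻¹) := by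
    rw [Exchange.isMinR_iff]
    intro k hk
    rcases cs.length_mul_simple (w * x⁻¹) k with h2 | h2
    · omega
    · exfalso
      have h3 : w = (w * x⁻¹ * cs.simple k) * (cs.simple k * x) := by
        simp [mul_assoc]
      have h4 := cs.length_mul_le (w * x⁻¹ * cs.simple k) (cs.simple k * x)
      rw [← h3] at h4
      have := h k hk
      omega
  have h5 := hmin (w * x⁻¹)⁻¹ (inv_mem (mul_mem hL.1 (inv_mem hx)))
  rw [mul_inv_cancel, cs.length_one, cs.length_inv] at h5
  have h6 : w * x⁻¹ = 1 := cs.length_eq_zero_iff.1 (by omega)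
  exact (mul_inv_eq_one.1 h6).symm

section dihedral

variable [Finite I] [Finite W]

theorem orderOf_eq (i j : I) : orderOf (cs.simple i * cs.simple j) = M i j := by
  classical
  have := Fintype.ofFinite I
  exact LieRecognition.CoxForm.orderOf_eq cs i j

omit [Finite I] [Finite W] in
theorem mem_two {i j : I} {x : W} (hx : x ∈ WJ cs {i, j}) (h : ℓ x = 1) :
    x = cs.simple i ∨ x = cs.simple j := by
  obtain ⟨ω, hω, hred, rfl⟩ := Exchange.exists_reduced_of_mem_WJ cs hx
  rw [hred.eq] at h
  obtain ⟨a, rfl⟩ := List.length_eq_one_iff.1 h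
  have := hω a (by simp)
  simpa using this.imp (fun h => by rw [h]) (fun h : a = j => by rw [h])

omit [Finite I] [Finite W] in
theorem mem_two' {i j : I} {x : W} (hx : x ∈ WJ cs {i, j}) (h : ℓ x = 2) :
    x = cs.simple i * cs.simple j ∨ x = cs.simple j * cs.simple i := by
  obtain ⟨ω, hω, hred, rfl⟩ := Exchange.exists_reduced_of_mem_WJ cs hx
  rw [hred.eq] at h
  obtain ⟨a, b, rfl⟩ := List.length_eq_two.1 h
  have ha := hω a (by simp)
  have hb := hω b (by simp)
  have hab : a ≠ b := by
    rintro rfl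
    have h1 := hred.eq
    rw [cs.wordProd_cons, cs.wordProd_cons, cs.wordProd_nil, mul_one, cs.simple_mul_simple_self,
      cs.length_one] at h1
    simp at h1
  rcases ha with rfl | ha <;> rcases hb with rfl | hb
  · exact absurd rfl hab
  · rw [Set.mem_singleton_iff] at hb
    subst hb
    left
    rw [cs.wordProd_cons, cs.wordProd_cons, cs.wordProd_nil, mul_one]
  · rw [Set.mem_singleton_iff] at ha
    subst ha
    right
    rw [cs.wordProd_cons, cs.wordProd_cons, cs.wordProd_nil, mul_one]
  · rw [Set.mem_singleton_iff] at ha hb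
    exact absurd (ha.trans hb.symm) hab

omit [Finite I] [Finite W] in
theorem simple_mem_left (i j : I) : cs.simple i ∈ WJ cs {i, j} :=
  Exchange.simple_mem_WJ cs (by simp)

omit [Finite I] [Finite W] in
theorem simple_mem_right (i j : I) : cs.simple j ∈ WJ cs {i, j} :=
  Exchange.simple_mem_WJ cs (by simp)

theorem ne_one {i j : I} (hij : i ≠ j) : cs.simple i * cs.simple j ≠ 1 := by
  intro h
  have h1 := orderOf_eq cs i j
  rw [h, orderOf_one] at h1
  exact M.off_diagonal i j hij h1.symm

theorem length_two {i j : I} (hij : i ≠ j) : ℓ (cs.simple i * cs.simple j) = 2 := by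
  rcases cs.length_mul_simple (cs.simple i) j with h | h
  · rw [h, cs.length_simple]
  · rw [cs.length_simple] at h
    exact absurd (cs.length_eq_zero_iff.1 (by omega)) (ne_one cs hij)

theorem length_three {i j : I} (hij : i ≠ j) (hm : M i j ≠ 2) :
    ℓ (cs.simple i * cs.simple j * cs.simple i) = 3 := by
  rcases cs.length_mul_simple (cs.simple i * cs.simple j) i with h | h
  · rw [h, length_two cs hij]
  · exfalso
    rw [length_two cs hij] at h
    have hmem : cs.simple i * cs.simple j * cs.simple i ∈ WJ cs {i, j} :=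
      mul_mem (mul_mem (simple_mem_left cs i j) (simple_mem_right cs i j)) (simple_mem_left cs i j)
    rcases mem_two cs hmem (by omega) with h1 | h1
    · have h2 : cs.simple i * cs.simple j = 1 := by
        have := congrArg (· * cs.simple i) h1
        simpa [mul_assoc] using this
      exact ne_one cs hij h2
    · have h2 : (cs.simple i * cs.simple j) ^ 2 = 1 := by
        have := congrArg (· * cs.simple j) h1
        rw [pow_two, ← mul_assoc]
        simpa using this
      have h3 := orderOf_dvd_of_pow_eq_one h2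
      rw [orderOf_eq] at h3
      have h4 := M.off_diagonal i j hij
      rcases (Nat.dvd_prime Nat.prime_two).1 h3 with h5 | h5
      · exact h4 h5
      · exact hm h5

theorem length_four {i j : I} (hij : i ≠ j) (hm : M i j = 4) :
    ℓ (cs.simple i * cs.simple j * cs.simple i * cs.simple j) = 4 := by
  have h3 := length_three cs hij (by omega)
  rcases cs.length_mul_simple (cs.simple i * cs.simple j * cs.simple i) j with h | h
  · rw [h, h3]
  · exfalso
    rw [h3] at h
    have hmem : cs.simple i * cs.simple j * cs.simple i * cs.simple j ∈ WJ cs {i, j} :=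
      mul_mem (mul_mem (mul_mem (simple_mem_left cs i j) (simple_mem_right cs i j))
        (simple_mem_left cs i j)) (simple_mem_right cs i j)
    rcases mem_two' cs hmem (by omega) with h1 | h1
    · have h2 : cs.simple i * cs.simple j = 1 := by
        rw [mul_assoc] at h1
        exact mul_eq_left.1 h1
      exact ne_one cs hij h2
    · have h2 : (cs.simple i * cs.simple j) ^ 3 = 1 := by
        have h4 : (cs.simple i * cs.simple j) ^ 3 =
            (cs.simple i * cs.simple j * cs.simple i * cs.simple j) * (cs.simple i * cs.simple j) := by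
          rw [pow_succ, pow_two]; simp only [mul_assoc]
        rw [h4, h1]
        simp [mul_assoc]
      have h3 := orderOf_dvd_of_pow_eq_one h2
      rw [orderOf_eq, hm] at h3
      omega

omit [Finite I] [Finite W] in
theorem braid_two {i j : I} (hm : M i j = 2) :
    cs.simple i * cs.simple j = cs.simple j * cs.simple i := by
  have h := cs.simple_mul_simple_pow i j
  rw [hm, pow_two] at h
  have h1 : cs.simple i * cs.simple j = (cs.simple i * cs.simple j)⁻¹ := eq_inv_of_mul_eq_one_left h
  rw [h1]; simp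

omit [Finite I] [Finite W] in
theorem braid_three {i j : I} (hm : M i j = 3) :
    cs.simple i * cs.simple j * cs.simple i = cs.simple j * cs.simple i * cs.simple j := by
  have h := cs.simple_mul_simple_pow i j
  rw [hm] at h
  have h1 : (cs.simple i * cs.simple j * cs.simple i) * (cs.simple j * cs.simple i * cs.simple j) = 1 := by
    rw [← h, pow_succ, pow_two]; simp only [mul_assoc]
  rw [eq_inv_of_mul_eq_one_left h1]
  simp [mul_assoc]

omit [Finite I] [Finite W] in
theorem braid_four {i j : I} (hm : M i j = 4) :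
    cs.simple i * cs.simple j * cs.simple i * cs.simple j =
      cs.simple j * cs.simple i * cs.simple j * cs.simple i := by
  have h := cs.simple_mul_simple_pow i j
  rw [hm] at h
  have h1 : (cs.simple i * cs.simple j * cs.simple i * cs.simple j) *
      (cs.simple i * cs.simple j * cs.simple i * cs.simple j) = 1 := by
    rw [← h, pow_succ, pow_succ, pow_two]; simp only [mul_assoc]
  rw [eq_inv_of_mul_eq_one_left h1]
  simp [mul_assoc]

omit [Finite I] in
theorem eq_wJ_pair {i j : I} {x : W} (hx : x ∈ WJ cs {i, j}) (hi : ℓ (cs.simple i * x) < ℓ x)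
    (hj : ℓ (cs.simple j * x) < ℓ x) : x = wJ cs {i, j} := by
  refine eq_wJ_of_descents cs hx ?_
  rintro k (rfl | hk)
  · exact hi
  · rw [Set.mem_singleton_iff] at hk
    subst hk
    exact hj

theorem wJ_two {i j : I} (hij : i ≠ j) (hm : M i j = 2) :
    wJ cs {i, j} = cs.simple i * cs.simple j := by
  symm
  refine eq_wJ_pair cs (mul_mem (simple_mem_left cs i j) (simple_mem_right cs i j)) ?_ ?_
  · rw [length_two cs hij]; simp
  · rw [length_two cs hij, braid_two cs hm]; simp

theorem wJ_three {i j : I} (hij : i ≠ j) (hm : M i j = 3) :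
    wJ cs {i, j} = cs.simple i * cs.simple j * cs.simple i := by
  symm
  have h3 := length_three cs hij (by omega : M i j ≠ 2)
  refine eq_wJ_pair cs (mul_mem (mul_mem (simple_mem_left cs i j) (simple_mem_right cs i j))
    (simple_mem_left cs i j)) ?_ ?_
  · rw [h3]
    have : cs.simple i * (cs.simple i * cs.simple j * cs.simple i) = cs.simple j * cs.simple i := by
      simp [mul_assoc]
    rw [this, length_two cs hij.symm]; omega
  · rw [h3, braid_three cs hm]
    have : cs.simple j * (cs.simple j * cs.simple i * cs.simple j) = cs.simple i * cs.simple j := by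
      simp [mul_assoc]
    rw [this, length_two cs hij]; omega

theorem wJ_four {i j : I} (hij : i ≠ j) (hm : M i j = 4) :
    wJ cs {i, j} = cs.simple i * cs.simple j * cs.simple i * cs.simple j := by
  symm
  have h4 := length_four cs hij hm
  have hm' : M j i = 4 := by rw [M.symmetric]; exact hm
  refine eq_wJ_pair cs (mul_mem (mul_mem (mul_mem (simple_mem_left cs i j) (simple_mem_right cs i j))
    (simple_mem_left cs i j)) (simple_mem_right cs i j)) ?_ ?_
  · rw [h4]
    have : cs.simple i * (cs.simple i * cs.simple j * cs.simple i * cs.simple j) =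
      cs.simple j * cs.simple i * cs.simple j := by
      simp [mul_assoc]
    rw [this, length_three cs hij.symm (by omega)]; omega
  · rw [h4, braid_four cs hm]
    have : cs.simple j * (cs.simple j * cs.simple i * cs.simple j * cs.simple i) =
      cs.simple i * cs.simple j * cs.simple i := by
      simp [mul_assoc]
    rw [this, length_three cs hij (by omega)]; omega

end dihedral

section generic

variable {cs}
variable {C : Type*} [Finite I] [Finite W]

omit [Finite I] [Finite W] in
theorem mem_Pan_self (Δ : Bldg cs C) (i : I) (x : C) : x ∈ Δ.Pan i x := Or.inl rfl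

omit [Finite I] [Finite W] in
theorem mem_Res_of_Pan (Δ : Bldg cs C) {i j k : I} (hk : k = i ∨ k = j) {x t e : C}
    (ht : t ∈ Δ.Pan k e) (h : Δ.δ x t ∈ WJ cs {i, j}) : e ∈ Δ.Res {i, j} x := by
  have hkm : cs.simple k ∈ WJ cs {i, j} := by
    rcases hk with rfl | rfl
    · exact simple_mem_left cs k j
    · exact simple_mem_right cs i k
  rcases ht with rfl | ht
  · exact h
  · have hs := Δ.step x t e k (symm_simple Δ ht)
    show Δ.δ x e ∈ WJ cs {i, j}
    rcases hs with hs | hs
    · rw [hs]; exact mul_mem h hkm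
    · rw [hs]; exact h

/-- The path between two generic chambers: `v` opposite to the first gallery, `v'` opposite to the
second one, joined by a gallery of chambers opposite to both ends. -/
theorem path (Δ : Bldg cs C) (hth : Δ.Thick) {i j : I} (hij : i ≠ j)
    (hm : M i j = 2 ∨ M i j = 3 ∨ M i j = 4) (y z : ℕ → C)
    (hy : ∀ k < M i j, Δ.δ (y k) (y (k + 1)) = cs.simple (if Even k then i else j))
    (hz : ∀ k < M i j, Δ.δ (z k) (z (k + 1)) = cs.simple (if Even k then j else i))
    (h0 : y 0 = z 0) (h1 : y (M i j) = z (M i j)) :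
    ∃ v v', (∀ a ≤ M i j, Δ.δ (y a) v = wJ cs {i, j}) ∧ (∀ a ≤ M i j, Δ.δ (z a) v' = wJ cs {i, j}) ∧
      Conn Δ i j (wJ cs {i, j}) (y 0) (y (M i j)) v v' := by
  rcases hm with hm | hm | hm
  · rw [wJ_two cs hij hm]
    rw [hm] at hy hz h1 ⊢
    have hl := length_two cs hij
    have a1 := hy 0 (by norm_num)
    have a2 := hy 1 (by norm_num)
    have b1 := hz 0 (by norm_num)
    have b2 := hz 1 (by norm_num)
    simp at a1 a2 b1 b2
    rw [← h0] at b1
    rw [← h1] at b2
    obtain ⟨v, v0, v1, v2, v3⟩ := two Δ hth (braid_two cs hm) hl a1 a2 b1 b2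
    refine ⟨v, v, ?_, ?_, Relation.ReflTransGen.refl⟩
    · intro a ha
      interval_cases a <;> assumption
    · intro a ha
      interval_cases a
      · rw [← h0]; exact v0
      · exact v3
      · rw [← h1]; exact v2
  · rw [wJ_three cs hij hm]
    rw [hm] at hy hz h1 ⊢
    have hl := length_three cs hij (by omega : M i j ≠ 2)
    have a1 := hy 0 (by norm_num)
    have a2 := hy 1 (by norm_num)
    have a3 := hy 2 (by norm_num)
    have b1 := hz 0 (by norm_num)
    have b2 := hz 1 (by norm_num)
    have b3 := hz 2 (by norm_num)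
    simp at a1 a2 a3 b1 b2 b3
    rw [← h0] at b1
    rw [← h1] at b3
    obtain ⟨v, f, v', ⟨v0, v1, v2, v3⟩, ⟨f0, f3⟩, ⟨w0, w1, w2, w3⟩, hvf, hfv⟩ :=
      three Δ hth (braid_three cs hm) hl a1 a2 a3 b1 b2 b3
    refine ⟨v, v', ?_, ?_, ?_⟩
    · intro a ha
      interval_cases a <;> assumption
    · intro a ha
      interval_cases a
      · rw [← h0]; exact w0
      · exact w1
      · exact w2
      · rw [← h1]; exact w3
    · refine Relation.ReflTransGen.head (b := f) ⟨Or.inr hvf, ⟨v0, v3⟩, ⟨f0, f3⟩⟩ ?_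
      exact Relation.ReflTransGen.single ⟨Or.inl hfv, ⟨f0, f3⟩, ⟨w0, w3⟩⟩
  · rw [wJ_four cs hij hm]
    rw [hm] at hy hz h1 ⊢
    have hl := length_four cs hij hm
    have a1 := hy 0 (by norm_num)
    have a2 := hy 1 (by norm_num)
    have a3 := hy 2 (by norm_num)
    have a4 := hy 3 (by norm_num)
    have b1 := hz 0 (by norm_num)
    have b2 := hz 1 (by norm_num)
    have b3 := hz 2 (by norm_num)
    have b4 := hz 3 (by norm_num)
    have e3 : ¬ Even 3 := by decide
    simp [e3] at a1 a2 a3 a4 b1 b2 b3 b4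
    rw [← h0] at b1
    rw [← h1] at b4
    obtain ⟨v, v', ⟨v0, v1, v2, v3, v4⟩, ⟨w0, w1, w2, w3, w4⟩, hvv⟩ :=
      four Δ hth (braid_four cs hm) hl a1 a2 a3 a4 b1 b2 b3 b4
    refine ⟨v, v', ?_, ?_, ?_⟩
    · intro a ha
      interval_cases a <;> assumption
    · intro a ha
      interval_cases a
      · rw [← h0]; exact w0
      · exact w1
      · exact w2
      · exact w3
      · rw [← h1]; exact w4
    · rcases hvv with rfl | hvv
      · exact Relation.ReflTransGen.refl
      · exact Relation.ReflTransGen.single ⟨Or.inl hvv, ⟨v0, v4⟩, ⟨w0, w4⟩⟩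

omit [Finite I] [Finite W] in
/-- generic panel, `m = 3` -/
theorem generic_three (Δ : Bldg cs C) (hth : Δ.Thick) {i j : I}
    (hb : cs.simple i * cs.simple j * cs.simple i = cs.simple j * cs.simple i * cs.simple j)
    (hl : cs.length (cs.simple i * cs.simple j * cs.simple i) = 3) {y0 y1 y2 y3 z1 z2 : C}
    (h01 : Δ.δ y0 y1 = cs.simple i) (h12 : Δ.δ y1 y2 = cs.simple j) (h23 : Δ.δ y2 y3 = cs.simple i)
    (k01 : Δ.δ y0 z1 = cs.simple j) (k12 : Δ.δ z1 z2 = cs.simple i) (k23 : Δ.δ z2 y3 = cs.simple j) :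
    ∃ e, ∀ a ∈ ({y0, y1, y2, y3, z1, z2} : Set C), ∃ t ∈ Δ.Pan j e,
      Δ.δ a t = cs.simple i * cs.simple j * cs.simple i := by
  set s := cs.simple i with hs
  set t := cs.simple j with ht
  have ls : cs.length s = 1 := cs.length_simple i
  have lt : cs.length t = 1 := cs.length_simple j
  have ss : s * s = 1 := cs.simple_mul_simple_self i
  have tt : t * t = 1 := cs.simple_mul_simple_self j
  have lsts : cs.length (s * t * s) = 3 := hl
  have ltst : cs.length (t * s * t) = 3 := by rw [← hb, hl]
  have lst : cs.length (s * t) = 2 := by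
    have h1 := cs.length_mul_le (s * t) s
    have h2 := cs.length_mul_le s t
    omega
  have lts : cs.length (t * s) = 2 := by
    have h1 := cs.length_mul_le (t * s) t
    have h2 := cs.length_mul_le t s
    omega
  -- `e1` third in the `i`-panel of `y0, y1`
  obtain ⟨e1, h0e, h1e⟩ := third Δ hth h01
  have h31 : Δ.δ y3 y1 = s * t := up Δ (symm_simple Δ h23) (symm_simple Δ h12) (by rw [lst, ls])
  have h3e : Δ.δ y3 e1 = s * t * s := up Δ h31 h1e (by rw [lsts, lst])
  -- the gate `e2` of `y3` on the `j`-panel of `e1`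
  obtain ⟨e2, he12, h3e2⟩ := Δ.exists_step y3 e1 j
  rw [← ht, h3e, hb, mul_assoc (t * s), tt, mul_one] at h3e2
  obtain ⟨f, he2f, h3f⟩ := Δ.exists_step y3 e2 i
  rw [← hs, h3e2, mul_assoc, ss, mul_one] at h3f
  have hfe2 : Δ.δ f e2 = s := symm_simple Δ he2f
  have hz1e1 : Δ.δ z1 e1 = t * s := up Δ (symm_simple Δ k01) h0e (by rw [lts, lt])
  have hz1e2 : Δ.δ z1 e2 = t * s * t := up Δ hz1e1 he12 (by rw [ltst, lts])
  have hz2f : Δ.δ z2 f = t := by
    by_cases h : z2 = f
    · exfalso
      subst h
      by_cases h' : z1 = e2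
      · subst h'
        rw [delta_self] at hz1e2
        have := congrArg cs.length hz1e2
        rw [cs.length_one, ltst] at this
        omega
      · have h2 := panel Δ (symm_simple Δ k12) hfe2 h'
        rw [hz1e2] at h2
        have := congrArg cs.length h2
        rw [ltst] at this
        have := cs.length_simple i
        omega
    · exact panel Δ (symm_simple Δ k23) h3f h
  obtain ⟨e3, he23, hfe3⟩ := third Δ hth he2f
  obtain ⟨e4, -, -, he34, -⟩ := hth e3 j
  rw [← ht] at he34
  have h0e2 : Δ.δ y0 e2 = s * t := up Δ h0e he12 (by rw [lst, ls])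
  have h1e2 : Δ.δ y1 e2 = s * t := up Δ h1e he12 (by rw [lst, ls])
  have h3e3 : Δ.δ y3 e3 = t * s := up Δ h3f hfe3 (by rw [lts, lt])
  have hz2e3 : Δ.δ z2 e3 = t * s := up Δ hz2f hfe3 (by rw [lts, lt])
  refine ⟨e3, ?_⟩
  rintro a (rfl | rfl | rfl | rfl | rfl | rfl)
  · exact ⟨e3, Or.inl rfl, up Δ h0e2 he23 (by rw [lsts, lst])⟩
  · exact ⟨e3, Or.inl rfl, up Δ h1e2 he23 (by rw [lsts, lst])⟩
  · refine ⟨e3, Or.inl rfl, ?_⟩
    rw [mul_assoc]
    exact up_left Δ h23 h3e3 (by rw [← mul_assoc, lsts, lts])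
  · exact ⟨e4, Or.inr he34, by rw [hb]; exact up Δ h3e3 he34 (by rw [ltst, lts])⟩
  · refine ⟨e3, Or.inl rfl, ?_⟩
    rw [mul_assoc]
    exact up_left Δ k12 hz2e3 (by rw [← mul_assoc, lsts, lts])
  · exact ⟨e4, Or.inr he34, by rw [hb]; exact up Δ hz2e3 he34 (by rw [ltst, lts])⟩

/-- The generic panel: a panel of the residue which contains, for each chamber `a` of the apartment
`y_0,…,y_m,z_{m-1},…,z_1`, a chamber opposite to `a`. -/
theorem generic (Δ : Bldg cs C) (hth : Δ.Thick) {i j : I} (hij : i ≠ j)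
    (hm : M i j = 2 ∨ M i j = 3 ∨ M i j = 4) (y z : ℕ → C)
    (hy : ∀ k < M i j, Δ.δ (y k) (y (k + 1)) = cs.simple (if Even k then i else j))
    (hz : ∀ k < M i j, Δ.δ (z k) (z (k + 1)) = cs.simple (if Even k then j else i))
    (h0 : y 0 = z 0) (h1 : y (M i j) = z (M i j)) :
    ∃ k e, (k = i ∨ k = j) ∧ e ∈ Δ.Res {i, j} (y 0) ∧
      (∀ a ≤ M i j, ∃ t ∈ Δ.Pan k e, Δ.δ (y a) t = wJ cs {i, j}) ∧
      (∀ a ≤ M i j, ∃ t ∈ Δ.Pan k e, Δ.δ (z a) t = wJ cs {i, j}) := by
  have hmem : wJ cs {i, j} ∈ WJ cs {i, j} := (Exchange.isLongest_wJ cs {i, j}).1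
  suffices h : ∃ k e, (k = i ∨ k = j) ∧
      (∀ a ≤ M i j, ∃ t ∈ Δ.Pan k e, Δ.δ (y a) t = wJ cs {i, j}) ∧
      (∀ a ≤ M i j, ∃ t ∈ Δ.Pan k e, Δ.δ (z a) t = wJ cs {i, j}) by
    obtain ⟨k, e, hk, h2, h3⟩ := h
    obtain ⟨t, ht, h4⟩ := h2 0 (Nat.zero_le _)
    exact ⟨k, e, hk, mem_Res_of_Pan Δ hk ht (by rw [h4]; exact hmem), h2, h3⟩
  by_cases hm3 : M i j = 3
  · rw [wJ_three cs hij hm3]
    rw [hm3] at hy hz h1 ⊢
    have a1 := hy 0 (by norm_num)
    have a2 := hy 1 (by norm_num)
    have a3 := hy 2 (by norm_num)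
    have b1 := hz 0 (by norm_num)
    have b2 := hz 1 (by norm_num)
    have b3 := hz 2 (by norm_num)
    simp at a1 a2 a3 b1 b2 b3
    rw [← h0] at b1
    rw [← h1] at b3
    obtain ⟨e, he⟩ := generic_three Δ hth (braid_three cs hm3)
      (length_three cs hij (by omega : M i j ≠ 2)) a1 a2 a3 b1 b2 b3
    refine ⟨j, e, Or.inr rfl, ?_, ?_⟩
    · intro a ha
      apply he
      interval_cases a <;> simp
    · intro a ha
      apply he
      interval_cases a
      · simp [← h0]
      · simp
      · simp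
      · simp [← h1]
  · rcases hm with hm | hm | hm
    · rw [wJ_two cs hij hm]
      rw [hm] at hy hz h1 ⊢
      have a1 := hy 0 (by norm_num)
      have a2 := hy 1 (by norm_num)
      have b1 := hz 0 (by norm_num)
      have b2 := hz 1 (by norm_num)
      simp at a1 a2 b1 b2
      rw [← h0] at b1
      rw [← h1] at b2
      obtain ⟨v, v0, v1, v2, v3⟩ := two Δ hth (braid_two cs hm) (length_two cs hij) a1 a2 b1 b2
      refine ⟨i, v, Or.inl rfl, fun a ha => ⟨v, Or.inl rfl, ?_⟩, fun a ha => ⟨v, Or.inl rfl, ?_⟩⟩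
      · interval_cases a <;> assumption
      · interval_cases a
        · rw [← h0]; exact v0
        · exact v3
        · rw [← h1]; exact v2
    · exact absurd hm hm3
    · rw [wJ_four cs hij hm]
      rw [hm] at hy hz h1 ⊢
      have a1 := hy 0 (by norm_num)
      have a2 := hy 1 (by norm_num)
      have a3 := hy 2 (by norm_num)
      have a4 := hy 3 (by norm_num)
      have b1 := hz 0 (by norm_num)
      have b2 := hz 1 (by norm_num)
      have b3 := hz 2 (by norm_num)
      have b4 := hz 3 (by norm_num)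
      have e3 : ¬ Even 3 := by decide
      simp [e3] at a1 a2 a3 a4 b1 b2 b3 b4
      rw [← h0] at b1
      rw [← h1] at b4
      obtain ⟨v, v', ⟨v0, v1, v2, v3, v4⟩, ⟨w0, w1, w2, w3, w4⟩, hvv⟩ :=
        four Δ hth (braid_four cs hm) (length_four cs hij hm) a1 a2 a3 a4 b1 b2 b3 b4
      refine ⟨i, v, Or.inl rfl, fun a ha => ⟨v, Or.inl rfl, ?_⟩, fun a ha => ⟨v', ?_, ?_⟩⟩
      · interval_cases a <;> assumption
      · exact hvv.imp (fun h => h.symm) id
      · interval_cases a
        · rw [← h0]; exact w0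
        · exact w1
        · exact w2
        · exact w3
        · rw [← h1]; exact w4

end generic

end Cfsg.Agent.Tits.Generic
end
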