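import Cfsg.Agent.Tits.MouTrans
import Cfsg.Agent.Tits.Rigid
import Cfsg.Agent.Tits.Opp
import Cfsg.Agent.Tits.Mou
import Cfsg.Agent.TitsThree.Pack
import Cfsg.Agent.Tits.MouDefs_mg
set_option linter.all false

/-!
S1143, (I1): consequences of the Moufang property.  Abstract setting: `A` acts faithfully by isometries on
a thick spherical building, `σ` is a chart, `U R` (`R` a root of `W`) the group of all elements of `A` which
fix `σ R` and all interior panels of `σ R`; we assume that `U (rt w i)` is transitive on the panel of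
type `i` of `σ w` (without `σ w`) and that the reflections `s_i` are induced on `σ` by elements of
`⟨U (rt 1 i), U (rt s_i i)⟩`.
-/

set_option autoImplicit false
set_option linter.unusedSectionVars false

namespace Cfsg.Agent.Tits.MouOut

open Cfsg.Agent.Tits.Core Cfsg.Agent.Tits.Core.Bldg Cfsg.Agent.Tits.Exchange
open Cfsg.Agent.Tits.MouTrans
open Cfsg.Agent.Tits.MouDefs (rt Aut Chart Ext Comb)

variable {I : Type*} {M : CoxeterMatrix I} {W : Type*} [Group W]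

section Roots

variable {cs : CoxeterSystem M W}

local prefix:100 "ℓ" => cs.length
local prefix:100 "s" => cs.simple

theorem mem_rt {w v : W} {i : I} : v ∈ rt cs w i ↔ ℓ (w⁻¹ * v) < ℓ (s i * (w⁻¹ * v)) := Iff.rfl

theorem mul_mem_rt {w u v : W} {i : I} : w * v ∈ rt cs (w * u) i ↔ v ∈ rt cs u i := by
  rw [mem_rt, mem_rt, mul_inv_rev, mul_assoc, inv_mul_cancel_left]

theorem mem_rt_mul {w u v : W} {i : I} : v ∈ rt cs (w * u) i ↔ w⁻¹ * v ∈ rt cs u i := by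
  rw [mem_rt, mem_rt, mul_inv_rev, mul_assoc]

theorem self_mem_rt (w : W) (i : I) : w ∈ rt cs w i := by
  rw [mem_rt, inv_mul_cancel, mul_one, cs.length_one, cs.length_simple]
  exact Nat.one_pos

theorem mul_simple_notMem_rt (w : W) (i : I) : w * s i ∉ rt cs w i := by
  rw [mem_rt, inv_mul_cancel_left, cs.simple_mul_simple_self, cs.length_one]
  exact Nat.not_lt_zero _

theorem mem_rt_iff {w v : W} {i : I} :
    v ∈ rt cs w i ↔ nn cs w (s i) + nn cs v⁻¹ (w * s i * w⁻¹) = 0 := by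
  have h1 : v ∈ rt cs w i ↔ ¬ ℓ (v⁻¹ * w * s i) < ℓ (v⁻¹ * w) := by
    rw [mem_rt]
    have e1 : ℓ (w⁻¹ * v) = ℓ (v⁻¹ * w) := by
      rw [← cs.length_inv, mul_inv_rev, inv_inv]
    have e2 : ℓ (s i * (w⁻¹ * v)) = ℓ (v⁻¹ * w * s i) := by
      rw [← cs.length_inv, mul_inv_rev, mul_inv_rev, inv_inv, cs.inv_simple]
    rw [e1, e2]
    have := cs.length_mul_simple (v⁻¹ * w) i
    omega
  rw [h1, ← nn_eq_one_iff cs (cs.isReflection_simple i), nn_mul]
  generalize nn cs w (s i) + nn cs v⁻¹ (w * s i * w⁻¹) = x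
  revert x
  decide

/-- `1 ∈ rt w i`, `s_j ∉ rt w i` imply `rt w i = rt 1 j`. -/
theorem rt_eq_of_notMem {w : W} {i j : I} (h1 : (1 : W) ∈ rt cs w i) (h2 : s j ∉ rt cs w i) :
    rt cs w i = rt cs 1 j := by
  have e : w * s i * w⁻¹ = s j := by
    rw [mem_rt, mul_one] at h1
    rw [mem_rt] at h2
    have a1 := cs.length_simple_mul w⁻¹ i
    have a2 := cs.length_mul_simple w⁻¹ j
    have a3 := cs.length_mul_simple (s i * w⁻¹) j
    have a4 := cs.length_simple_mul (w⁻¹ * s j) i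
    rw [← mul_assoc] at a4 h2
    have b1 : ℓ (w⁻¹ * s j) = ℓ w⁻¹ + 1 := by omega
    rcases fold cs (w := w⁻¹) (i := i) (j := j) (by omega) b1 with h | h
    · omega
    · rw [mul_assoc, h, mul_inv_cancel_left]
  have n1 : ∀ t, nn cs (1 : W)⁻¹ t = 0 := fun t => by rw [inv_one, nn_one]
  have hw : nn cs w (s i) = 0 := by
    rw [mem_rt_iff, n1, add_zero] at h1
    exact h1
  ext v
  rw [mem_rt_iff, mem_rt_iff, hw, e, one_mul, inv_one, mul_one, nn_one]

end Roots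

variable {cs : CoxeterSystem M W}
variable {C A : Type*} [Group A] [MulAction A C] {Δ : Bldg cs C}

local prefix:100 "ℓ" => cs.length
local prefix:100 "s" => cs.simple

/-- The set of `g` fixing `σ R` and the interior panels of `σ R`. -/
def ug (Δ : Bldg cs C) (σ : W → C) (R : Set W) : Set A :=
  {g | (∀ v ∈ R, g • σ v = σ v) ∧
    ∀ v j, v ∈ R → v * cs.simple j ∈ R → ∀ y ∈ Δ.Pan j (σ v), g • y = y}

/-- The Moufang property for a chart `σ`. -/
structure Sys (Δ : Bldg cs C) (A : Type*) [Group A] [MulAction A C] (σ : W → C)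
    (U : Set W → Subgroup A) : Prop where
  iso : Iso Δ A
  faith : ∀ a : A, (∀ x : C, a • x = x) → a = 1
  thick : Δ.Thick
  chart : ∀ v w, Δ.δ (σ v) (σ w) = v⁻¹ * w
  mem : ∀ w i g, g ∈ U (rt cs w i) ↔ g ∈ ug Δ σ (rt cs w i)
  trans : ∀ w i y y', Δ.δ (σ w) y = cs.simple i → Δ.δ (σ w) y' = cs.simple i →
    ∃ g ∈ U (rt cs w i), g • y = y'
  free : ∀ w i, ∀ g ∈ U (rt cs w i), g • σ (w * cs.simple i) = σ (w * cs.simple i) → g = 1
  weyl : ∀ i, ∃ m ∈ U (rt cs 1 i) ⊔ U (rt cs (cs.simple i) i), ∀ v, m • σ v = σ (cs.simple i * v)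

/-- The rank one group `L_i`. -/
def Lg (cs : CoxeterSystem M W) (U : Set W → Subgroup A) (i : I) : Subgroup A :=
  U (rt cs 1 i) ⊔ U (rt cs (cs.simple i) i)

/-- The group `G'` generated by the `L_i`. -/
def Gg (cs : CoxeterSystem M W) (U : Set W → Subgroup A) : Subgroup A := ⨆ i, Lg cs U i

/-- `U_+`. -/
def Up (cs : CoxeterSystem M W) (U : Set W → Subgroup A) : Subgroup A :=
  Subgroup.closure {g | ∃ w i, (1 : W) ∈ rt cs w i ∧ g ∈ U (rt cs w i)}

namespace Sys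

variable {σ : W → C} {U : Set W → Subgroup A} (H : Sys Δ A σ U)

include H

theorem fix {w : W} {i : I} {g : A} (hg : g ∈ U (rt cs w i)) {v : W} (hv : v ∈ rt cs w i) :
    g • σ v = σ v := ((H.mem w i g).1 hg).1 v hv

theorem fixpan {w : W} {i : I} {g : A} (hg : g ∈ U (rt cs w i)) {v : W} {j : I}
    (hv : v ∈ rt cs w i) (hv' : v * s j ∈ rt cs w i) {y : C} (hy : y ∈ Δ.Pan j (σ v)) :
    g • y = y := ((H.mem w i g).1 hg).2 v j hv hv' y hy

/-- (M2) -/
theorem conj {n : A} {u : W} (hn : ∀ v, n • σ v = σ (u * v)) {w : W} {i : I} {g : A}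
    (hg : g ∈ U (rt cs w i)) : n * g * n⁻¹ ∈ U (rt cs (u * w) i) := by
  have hn' : ∀ v, n⁻¹ • σ v = σ (u⁻¹ * v) := fun v => by
    rw [inv_smul_eq_iff, hn, mul_inv_cancel_left]
  rw [H.mem]
  refine ⟨fun v hv => ?_, fun v j hv hv' y hy => ?_⟩
  · rw [mem_rt_mul] at hv
    rw [mul_smul, mul_smul, hn', H.fix hg hv, hn, mul_inv_cancel_left]
  · rw [mem_rt_mul] at hv hv'
    rw [← mul_assoc] at hv'
    rw [mul_smul, mul_smul, H.fixpan hg hv hv' (y := n⁻¹ • y), smul_inv_smul]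
    rw [← hn']
    exact pan_smul H.iso _ hy

theorem conj_iff {n : A} {u : W} (hn : ∀ v, n • σ v = σ (u * v)) {w : W} {i : I} {g : A} :
    n * g * n⁻¹ ∈ U (rt cs (u * w) i) ↔ g ∈ U (rt cs w i) := by
  refine ⟨fun h => ?_, H.conj hn⟩
  have hn' : ∀ v, n⁻¹ • σ v = σ (u⁻¹ * v) := fun v => by
    rw [inv_smul_eq_iff, hn, mul_inv_cancel_left]
  have := H.conj hn' h
  rw [inv_mul_cancel_left] at this
  convert this using 1
  group

theorem fix_of_fix [Finite W] {h : A} (h1 : h • σ 1 = σ 1) (h2 : h • σ (w0 cs) = σ (w0 cs))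
    (v : W) : h • σ v = σ v := by
  have hl : ℓ (v * (v⁻¹ * w0 cs)) = ℓ v + ℓ (v⁻¹ * w0 cs) := by
    rw [mul_inv_cancel_left]
    have := length_mul_w0 cs v⁻¹
    rw [cs.length_inv] at this
    have h3 := length_w0_mul cs v
    have h4 : ℓ (v⁻¹ * w0 cs) = ℓ (w0 cs * v) := by
      rw [← cs.length_inv, mul_inv_rev, inv_inv, w0_inv]
    omega
  have e1 : Δ.δ (σ 1) (σ v) = v := by rw [H.chart, inv_one, one_mul]
  have e2 : Δ.δ (σ v) (σ (w0 cs)) = v⁻¹ * w0 cs := H.chart _ _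
  refine Δ.between_unique (x := σ 1) (z := σ (w0 cs)) hl ?_ ?_ e1 e2
  · rw [← h1, H.iso, e1]
  · rw [← h2, H.iso, e2]

/-- Elements fixing `σ` normalise all root groups. -/
theorem conj_of_fix {h : A} (hh : ∀ v, h • σ v = σ v) {w : W} {i : I} {g : A}
    (hg : g ∈ U (rt cs w i)) : h * g * h⁻¹ ∈ U (rt cs w i) := by
  have := H.conj (n := h) (u := 1) (fun v => by rw [one_mul, hh]) hg
  rwa [one_mul] at this

theorem opp : Δ.Opp (σ 1) (σ (w0 cs)) := by
  rw [Bldg.Opp, H.chart, inv_one, one_mul]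

/-! ### The groups `L_i` -/

theorem pan {i : I} {g : A} (hg : g ∈ Lg cs U i) : g • σ 1 ∈ Δ.Pan i (σ 1) := by
  let S : Subgroup A :=
    { carrier := {g | g • σ 1 ∈ Δ.Pan i (σ 1)}
      one_mem' := by
        change (1 : A) • σ 1 ∈ Δ.Pan i (σ 1)
        rw [one_smul]; exact Δ.self_mem_Pan _ _
      mul_mem' := by
        intro a b ha hb
        change (a * b) • σ 1 ∈ Δ.Pan i (σ 1)
        rw [mul_smul]
        exact Δ.mem_Pan_trans ha (pan_smul H.iso a hb)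
      inv_mem' := by
        intro a ha
        change a⁻¹ • σ 1 ∈ Δ.Pan i (σ 1)
        have := pan_smul H.iso a⁻¹ ha
        rw [inv_smul_smul] at this
        exact Δ.mem_Pan_symm this }
  have h1 : U (rt cs 1 i) ≤ S := fun g hg => by
    change g • σ 1 ∈ Δ.Pan i (σ 1)
    rw [H.fix hg (self_mem_rt 1 i)]
    exact Δ.self_mem_Pan _ _
  have hs : σ (s i) ∈ Δ.Pan i (σ 1) := Or.inr (by rw [H.chart, inv_one, one_mul])
  have h2 : U (rt cs (s i) i) ≤ S := fun g hg => by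
    change g • σ 1 ∈ Δ.Pan i (σ 1)
    have h3 := pan_smul H.iso g (Δ.mem_Pan_symm hs)
    rw [H.fix hg (self_mem_rt (s i) i)] at h3
    exact Δ.mem_Pan_trans hs h3
  exact (sup_le h1 h2) hg

theorem panTrans {i : I} {y : C} (hy : y ∈ Δ.Pan i (σ 1)) : ∃ g ∈ Lg cs U i, g • σ 1 = y := by
  have e1 : Δ.δ (σ 1) (σ (s i)) = s i := by rw [H.chart, inv_one, one_mul]
  have e2 : Δ.δ (σ (s i)) (σ 1) = s i := Δ.δ_symm_simple e1
  have hs : σ (s i) ∈ Δ.Pan i (σ 1) := Or.inr e1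
  have hle1 : U (rt cs 1 i) ≤ Lg cs U i := le_sup_left
  have hle2 : U (rt cs (s i) i) ≤ Lg cs U i := le_sup_right
  have key : ∀ z ∈ Δ.Pan i (σ 1), z ≠ σ (s i) → ∃ g ∈ U (rt cs (s i) i), g • σ 1 = z := by
    intro z hz hne
    exact H.trans (s i) i (σ 1) z e2 (Δ.δ_eq_of_mem_Pan hs hz (Ne.symm hne))
  by_cases hne : y = σ (s i)
  · subst hne
    obtain ⟨z, z', hzz, hz, hz'⟩ := H.thick (σ 1) i
    -- a third chamber
    obtain ⟨t, ht, htn⟩ : ∃ t, Δ.δ (σ 1) t = s i ∧ t ≠ σ (s i) := by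
      by_cases h : z = σ (s i)
      · exact ⟨z', hz', fun h' => hzz (h.trans h'.symm)⟩
      · exact ⟨z, hz, h⟩
    obtain ⟨g, hg, h1⟩ := key t (Or.inr ht) htn
    obtain ⟨g', hg', h2⟩ := H.trans 1 i t (σ (s i)) ht e1
    exact ⟨g' * g, mul_mem (hle1 hg') (hle2 hg), by rw [mul_smul, h1, h2]⟩
  · obtain ⟨g, hg, h1⟩ := key y hy hne
    exact ⟨g, hle2 hg, h1⟩

/-! ### The group `G'` -/

theorem Lg_le (i : I) : Lg cs U i ≤ Gg cs U := le_iSup (Lg cs U) i

theorem Gtrans (x : C) : ∃ g ∈ Gg cs U, g • σ 1 = x :=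
  trans_of_pan H.iso (Gg cs U) (σ 1) (fun i y hy => by
    obtain ⟨g, hg, h⟩ := H.panTrans hy
    exact ⟨g, H.Lg_le i hg, h⟩) x

theorem exists_weyl (w : W) : ∃ n ∈ Gg cs U, ∀ v, n • σ v = σ (w * v) := by
  induction w using cs.simple_induction_left with
  | one => exact ⟨1, one_mem _, fun v => by rw [one_smul, one_mul]⟩
  | mul_simple_left w i ih =>
    obtain ⟨n, hn, h⟩ := ih
    obtain ⟨m, hm, hm'⟩ := H.weyl i
    exact ⟨m * n, mul_mem (H.Lg_le i hm) hn, fun v => by rw [mul_smul, h, hm', mul_assoc]⟩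

theorem rt_le (w : W) (i : I) : U (rt cs w i) ≤ Gg cs U := by
  intro g hg
  obtain ⟨n, hn, h⟩ := H.exists_weyl w
  have h' : ∀ v, n⁻¹ • σ v = σ (w⁻¹ * v) := fun v => by
    rw [inv_smul_eq_iff, h, mul_inv_cancel_left]
  have h1 := H.conj h' hg
  rw [inv_mul_cancel] at h1
  have h2 : n⁻¹ * g * n⁻¹⁻¹ ∈ Gg cs U := H.Lg_le i (le_sup_left (a := U (rt cs 1 i)) h1)
  have h3 : g = n * (n⁻¹ * g * n⁻¹⁻¹) * n⁻¹ := by group
  rw [h3]
  exact mul_mem (mul_mem hn h2) (inv_mem hn)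

theorem Up_le : Up cs U ≤ Gg cs U := by
  rw [Up, Subgroup.closure_le]
  rintro g ⟨w, i, -, hg⟩
  exact H.rt_le w i hg

theorem Up_fix {g : A} (hg : g ∈ Up cs U) : g • σ 1 = σ 1 := by
  have : Up cs U ≤ MulAction.stabilizer A (σ 1) := by
    rw [Up, Subgroup.closure_le]
    rintro g ⟨w, i, h1, hg⟩
    exact H.fix hg h1
  exact this hg

theorem rt_le_Up {w : W} {i : I} (h : (1 : W) ∈ rt cs w i) : U (rt cs w i) ≤ Up cs U :=
  fun g hg => Subgroup.subset_closure ⟨w, i, h, hg⟩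

/-- `U_+` is transitive on the chambers at distance `v` from `σ 1`. -/
theorem Up_trans (v : W) : ∀ x, Δ.δ (σ 1) x = v → ∃ u ∈ Up cs U, u • σ v = x := by
  generalize hk : ℓ v = k
  induction k generalizing v with
  | zero =>
    intro x hx
    rw [cs.length_eq_zero_iff] at hk
    subst hk
    exact ⟨1, one_mem _, by rw [one_smul, Δ.eq_of_δ_eq_one hx]⟩
  | succ k ih =>
    intro x hx
    have hne : v ≠ 1 := fun h1 => by rw [h1, cs.length_one] at hk; omega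
    obtain ⟨j, hj⟩ := cs.exists_rightDescent_of_ne_one hne
    rw [cs.isRightDescent_iff] at hj
    set v' := v * s j with hv'
    have hv : v = v' * s j := by rw [hv', cs.simple_mul_simple_cancel_right]
    have hl : ℓ (v' * s j) = ℓ v' + ℓ (s j) := by rw [← hv, cs.length_simple, ← hj]
    obtain ⟨x', hx1, hx2⟩ := Δ.exists_between (hx.trans hv) hl
    obtain ⟨u, hu, hux⟩ := ih v' (by omega) x' hx1
    have h1 : Δ.δ (σ v') (u⁻¹ • x) = s j := by
      rw [← H.iso u, smul_inv_smul, hux, hx2]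
    have h2 : Δ.δ (σ v') (σ v) = s j := by
      rw [H.chart, hv, inv_mul_cancel_left]
    obtain ⟨g, hg, hgx⟩ := H.trans v' j (σ v) (u⁻¹ • x) h2 h1
    have h3 : (1 : W) ∈ rt cs v' j := by
      rw [mem_rt, mul_one, cs.length_inv]
      have : ℓ (s j * v'⁻¹) = ℓ (v' * s j) := by
        rw [← cs.length_inv, mul_inv_rev, inv_inv, cs.inv_simple]
      rw [this, hl, cs.length_simple]
      omega
    exact ⟨u * g, mul_mem hu (H.rt_le_Up h3 hg), by rw [mul_smul, hgx, smul_inv_smul]⟩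

/-- `U_+` acts on the panel of type `i` of `σ 1` as `U (rt 1 i)`. -/
theorem Up_act (i : I) {g : A} (hg : g ∈ Up cs U) :
    ∃ u ∈ U (rt cs 1 i), ∀ y ∈ Δ.Pan i (σ 1), g • y = u • y := by
  have stab : ∀ u ∈ U (rt cs 1 i), ∀ y ∈ Δ.Pan i (σ 1), u • y ∈ Δ.Pan i (σ 1) := by
    intro u hu y hy
    have := pan_smul H.iso u hy
    rwa [H.fix hu (self_mem_rt 1 i)] at this
  let S : Subgroup A :=
    { carrier := {g | ∃ u ∈ U (rt cs 1 i), ∀ y ∈ Δ.Pan i (σ 1), g • y = u • y}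
      one_mem' := ⟨1, one_mem _, fun y _ => rfl⟩
      mul_mem' := by
        rintro a b ⟨u, hu, h⟩ ⟨u', hu', h'⟩
        refine ⟨u * u', mul_mem hu hu', fun y hy => ?_⟩
        rw [mul_smul, mul_smul, h' y hy, h _ (stab u' hu' y hy)]
      inv_mem' := by
        rintro a ⟨u, hu, h⟩
        refine ⟨u⁻¹, inv_mem hu, fun y hy => ?_⟩
        rw [inv_smul_eq_iff, h _ (stab _ (inv_mem hu) y hy), smul_inv_smul] }
  have hle : Up cs U ≤ S := by
    rw [Up, Subgroup.closure_le]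
    rintro g ⟨w, j, h1, hg⟩
    by_cases h2 : s i ∈ rt cs w j
    · refine ⟨1, one_mem _, fun y hy => ?_⟩
      rw [one_smul]
      exact H.fixpan hg h1 (by rwa [one_mul]) hy
    · rw [rt_eq_of_notMem h1 h2] at hg
      exact ⟨g, hg, fun y _ => rfl⟩
  exact hle hg

/-- `U_+` is regular on the chambers opposite to `σ 1`. -/
theorem Up_free [Finite I] [Finite W] {g : A} (hg : g ∈ Up cs U) (h : g • σ (w0 cs) = σ (w0 cs)) :
    g = 1 := by
  have h1 := H.Up_fix hg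
  have h2 := H.fix_of_fix h1 h
  refine H.faith g fun x => ?_
  refine Rigid.rigid (Δ' := Δ) H.thick (J := Set.univ) (c := σ 1) (d := σ (w0 cs))
    (φ := fun x => g • x) (ψ := fun x => x) (fun a _ b _ => H.iso g a b) (fun a _ b _ => rfl)
    ?_ H.opp h x (by rw [Δ.Res_univ]; trivial)
  intro j _ y hy
  obtain ⟨u, hu, hu'⟩ := H.Up_act j hg
  have h3 : u = 1 := by
    refine H.free 1 j u hu ?_
    rw [one_mul, ← hu' _ (Or.inr (by rw [H.chart, inv_one, one_mul])), h2]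
  change g • y = y
  rw [hu' y hy, h3, one_smul]

/-! ### Normality -/

theorem Up_conj_fix {h : A} (hh : ∀ v, h • σ v = σ v) {g : A} (hg : g ∈ Up cs U) :
    h * g * h⁻¹ ∈ Up cs U := by
  have hle : Up cs U ≤ (Up cs U).comap (MulAut.conj h).toMonoidHom := by
    conv_lhs => rw [Up]
    rw [Subgroup.closure_le]
    rintro g ⟨w, i, h1, hg⟩
    exact H.rt_le_Up h1 (H.conj_of_fix hh hg)
  exact hle hg

theorem Gg_conj_fix {h : A} (hh : ∀ v, h • σ v = σ v) {g : A} (hg : g ∈ Gg cs U) :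
    h * g * h⁻¹ ∈ Gg cs U := by
  have hle : Gg cs U ≤ (Gg cs U).comap (MulAut.conj h).toMonoidHom := by
    conv_lhs => rw [Gg]
    refine iSup_le fun i => ?_
    rw [Lg]
    refine sup_le ?_ ?_ <;> intro g hg
    · exact H.rt_le _ _ (H.conj_of_fix hh hg)
    · exact H.rt_le _ _ (H.conj_of_fix hh hg)
  exact hle hg

section Fin

variable [Finite I] [Finite W]

/-- `A_c = U_+ A_{c,d}`. -/
theorem exists_Up {a : A} (ha : a • σ 1 = σ 1) :
    ∃ u ∈ Up cs U, ∃ h : A, (∀ v, h • σ v = σ v) ∧ a = u * h := by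
  have h1 : Δ.δ (σ 1) (a • σ (w0 cs)) = w0 cs := by
    conv_lhs => rw [← ha]
    rw [H.iso]
    exact H.opp
  obtain ⟨u, hu, hux⟩ := H.Up_trans (w0 cs) _ h1
  refine ⟨u, hu, u⁻¹ * a, ?_, by group⟩
  refine H.fix_of_fix ?_ ?_
  · rw [mul_smul, ha, inv_smul_eq_iff, H.Up_fix hu]
  · rw [mul_smul, ← hux, inv_smul_smul]

/-- `U_+` is normal in `A_c`. -/
theorem Up_normal {a : A} (ha : a • σ 1 = σ 1) {g : A} (hg : g ∈ Up cs U) :
    a * g * a⁻¹ ∈ Up cs U := by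
  obtain ⟨u, hu, h, hh, rfl⟩ := H.exists_Up ha
  have : u * h * g * (u * h)⁻¹ = u * (h * g * h⁻¹) * u⁻¹ := by group
  rw [this]
  exact mul_mem (mul_mem hu (H.Up_conj_fix hh hg)) (inv_mem hu)

/-- `G'` is strongly transitive. -/
theorem Gstrong : ∀ x y x' y', Δ.δ x y = Δ.δ x' y' → ∃ n ∈ Gg cs U, n • x = x' ∧ n • y = y' :=
  strong_of_opp H.iso (Gg cs U) (σ 1) (σ (w0 cs)) H.opp H.Gtrans fun x hx => by
    obtain ⟨u, hu, h⟩ := H.Up_trans (w0 cs) x hx
    exact ⟨u, H.Up_le hu, H.Up_fix hu, h⟩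

theorem exists_Gg (a : A) : ∃ g ∈ Gg cs U, ∃ h : A, (∀ v, h • σ v = σ v) ∧ a = g * h := by
  obtain ⟨g, hg, h1, h2⟩ := H.Gstrong (σ 1) (σ (w0 cs)) (a • σ 1) (a • σ (w0 cs))
    (H.iso a _ _).symm
  refine ⟨g, hg, g⁻¹ * a, H.fix_of_fix ?_ ?_, by group⟩
  · rw [mul_smul, ← h1, inv_smul_smul]
  · rw [mul_smul, ← h2, inv_smul_smul]

/-- `G'` is normal. -/
theorem Gnormal : (Gg cs U).Normal := by
  refine ⟨fun n hn a => ?_⟩
  obtain ⟨g, hg, h, hh, rfl⟩ := H.exists_Gg a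
  have : g * h * n * (g * h)⁻¹ = g * (h * n * h⁻¹) * g⁻¹ := by group
  rw [this]
  exact mul_mem (mul_mem hg (H.Gg_conj_fix hh hn)) (inv_mem hg)

/-- `G'` is the normal closure of `U_+`. -/
theorem Gg_eq : Gg cs U = Subgroup.normalClosure (Up cs U : Set A) := by
  have := H.Gnormal
  refine le_antisymm ?_ (Subgroup.normalClosure_le_normal H.Up_le)
  rw [Gg]
  refine iSup_le fun i => ?_
  rw [Lg]
  have h1 : U (rt cs 1 i) ≤ Subgroup.normalClosure (Up cs U : Set A) :=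
    (H.rt_le_Up (self_mem_rt 1 i)).trans Subgroup.subset_normalClosure
  refine sup_le h1 ?_
  intro g hg
  obtain ⟨m, -, hm⟩ := H.weyl i
  have h2 := H.conj hm hg
  rw [cs.simple_mul_simple_self] at h2
  have h3 : g = m⁻¹ * (m * g * m⁻¹) * m⁻¹⁻¹ := by group
  rw [h3]
  exact Subgroup.normalClosure_normal.conj_mem _ (h1 h2) _

theorem Gg_strongAct : Δ.StrongAct (Gg cs U) where
  iso g x y := H.iso (g : A) x y
  trans x y x' y' h := by
    obtain ⟨n, hn, h1, h2⟩ := H.Gstrong x y x' y' h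
    exact ⟨⟨n, hn⟩, h1, h2⟩
  faithful := ⟨fun {g g'} h => by
    have h1 : ((g' : A)⁻¹ * (g : A)) = 1 := H.faith _ fun x => by
      rw [mul_smul, inv_smul_eq_iff]
      exact h x
    exact Subtype.ext (inv_mul_eq_one.1 h1).symm⟩

/-- `|U_+| = |opp(c)|`. -/
theorem card_Up : Nat.card (Up cs U) = Nat.card {y // Δ.δ (σ 1) y = w0 cs} := by
  refine Nat.card_congr (Equiv.ofBijective
    (fun u : Up cs U => (⟨(u : A) • σ (w0 cs), ?_⟩ : {y // Δ.δ (σ 1) y = w0 cs})) ⟨?_, ?_⟩)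
  · have := H.iso (u : A) (σ 1) (σ (w0 cs))
    rw [H.Up_fix u.2] at this
    rw [this]
    exact H.opp
  · intro u v huv
    have h1 : (u : A) • σ (w0 cs) = (v : A) • σ (w0 cs) := congrArg Subtype.val huv
    have h2 : ((v : A)⁻¹ * u) • σ (w0 cs) = σ (w0 cs) := by rw [mul_smul, h1, inv_smul_smul]
    have h3 := H.Up_free (mul_mem (inv_mem v.2) u.2) h2
    exact Subtype.ext (inv_mul_eq_one.mp h3).symm
  · rintro ⟨x, hx⟩
    obtain ⟨u, hu, h⟩ := H.Up_trans (w0 cs) x hx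
    exact ⟨⟨u, hu⟩, Subtype.ext h⟩

/-- `U_+` is a `p`-group if all parameters are powers of `p`. -/
theorem Up_isPGroup {p : ℕ} [Fact p.Prime] {q : I → ℕ} (hq : ∀ i, Δ.Param i (q i))
    (hp : ∀ i, ∃ n, q i = p ^ n) : IsPGroup p (Up cs U) := by
  have hq0 : ∀ i, 0 < q i := fun i => by
    obtain ⟨n, hn⟩ := hp i
    rw [hn]
    exact pow_pos (Fact.out : p.Prime).pos n
  obtain ⟨ω, hω, hw⟩ := cs.exists_isReduced (w0 cs)
  have h1 := Cfsg.Agent.Tits.Opp.card_sphere Δ hq hq0 (σ 1) hω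
  rw [← hw, ← H.card_Up] at h1
  have h2 : ∀ l : List I, ∃ n, (l.map q).prod = p ^ n := by
    intro l
    induction l with
    | nil => exact ⟨0, by simp⟩
    | cons i l ih =>
      obtain ⟨n, hn⟩ := ih
      obtain ⟨m, hm⟩ := hp i
      exact ⟨m + n, by rw [List.map_cons, List.prod_cons, hn, hm, pow_add]⟩
  obtain ⟨n, hn⟩ := h2 ω
  exact IsPGroup.of_card (h1.trans hn)

/-- **END** for the Moufang building: a non-solvable simple strongly transitive group equals `G'`. -/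
theorem eq_of_simple [Finite A] {p : ℕ} [Fact p.Prime] {q : I → ℕ} (hq : ∀ i, Δ.Param i (q i))
    (hp : ∀ i, ∃ n, q i = p ^ n)
    (hH : Group.IsSolvable
      ↥(MulAction.stabilizer A (σ 1) ⊓ MulAction.stabilizer A (σ (w0 cs))))
    (hcop : (Nat.card ↥(MulAction.stabilizer A (σ 1) ⊓ MulAction.stabilizer A (σ (w0 cs)) ⊓
      Gg cs U)).Coprime p)
    (G : Subgroup A) [IsSimpleGroup G] (hns : ¬ Group.IsSolvable G)
    (hG : ∀ x y x' y', Δ.δ x y = Δ.δ x' y' → ∃ g ∈ G, g • x = x' ∧ g • y = y') :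
    G = Gg cs U := by
  rw [H.Gg_eq] at hcop ⊢
  refine (TitsThree.End.main (c := σ 1) (d := σ (w0 cs)) (O := {x | Δ.Opp (σ 1) x}) (p := p)
    (fun a ha x hx => ?_) H.opp (fun u hu => H.Up_fix hu) (fun a ha u hu => H.Up_normal ha hu)
    (H.Up_isPGroup hq hp) (fun x hx => H.Up_trans _ x hx) (fun u hu h => H.Up_free hu h)
    (fun x => ?_) hH hcop G hns (fun x => ?_) (fun x hx => ?_)).1
  · have := opp_smul H.iso a hx
    rwa [MulAction.mem_stabilizer_iff.1 ha] at this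
  · rw [← H.Gg_eq]
    exact H.Gtrans x
  · obtain ⟨g, hg, h, -⟩ := hG (σ 1) (σ 1) x x (by rw [Δ.δ_self, Δ.δ_self])
    exact ⟨g, hg, h⟩
  · obtain ⟨g, hg, h, h'⟩ := hG (σ 1) (σ (w0 cs)) (σ 1) x (by rw [hx]; exact H.opp)
    exact ⟨g, hg, h, h'⟩

end Fin

/-! ### Output for the packages of `TitsThree.Pack` -/

/-- A set of elements of `G'` containing all elements of the fundamental root groups generates. -/
theorem closure_eq_top {S : Set (Gg cs U)}
    (hp : ∀ i, ∀ g ∈ U (rt cs 1 i), ∃ h ∈ S, (h : A) = g)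
    (hm : ∀ i, ∀ g ∈ U (rt cs (cs.simple i) i), ∃ h ∈ S, (h : A) = g) :
    Subgroup.closure S = ⊤ := by
  have key : Gg cs U ≤ (Subgroup.closure S).map (Gg cs U).subtype := by
    conv_lhs => rw [Gg]
    refine iSup_le fun i => ?_
    rw [Lg]
    refine sup_le ?_ ?_
    · intro g hg
      obtain ⟨h, hh, rfl⟩ := hp i g hg
      exact Subgroup.mem_map_of_mem _ (Subgroup.subset_closure hh)
    · intro g hg
      obtain ⟨h, hh, rfl⟩ := hm i g hg
      exact Subgroup.mem_map_of_mem _ (Subgroup.subset_closure hh)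
  rw [eq_top_iff]
  rintro ⟨g, hg⟩ -
  obtain ⟨h, hh, e⟩ := key hg
  have : h = ⟨g, hg⟩ := Subtype.ext e
  rwa [← this]

/-- The action of the fundamental root groups on the panels of `σ 1`. -/
theorem nodeAct {i : I} {X : Type*} {xp xm : X → Gg cs U}
    (hp : ∀ t, (xp t : A) ∈ U (rt cs 1 i)) (hp' : ∀ g ∈ U (rt cs 1 i), ∃ t, (xp t : A) = g)
    (hm : ∀ t, (xm t : A) ∈ U (rt cs (cs.simple i) i))
    (hm' : ∀ g ∈ U (rt cs (cs.simple i) i), ∃ t, (xm t : A) = g) :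
    TitsThree.Pack.NodeAct Δ (σ 1) i (σ (cs.simple i)) xp xm := by
  have e1 : Δ.δ (σ 1) (σ (s i)) = s i := by rw [H.chart, inv_one, one_mul]
  have e2 : Δ.δ (σ (s i)) (σ 1) = s i := Δ.δ_symm_simple e1
  have hs : σ (s i) ∈ Δ.Pan i (σ 1) := Or.inr e1
  refine ⟨hs, (Δ.ne_of_δ_simple e1).symm, fun t => H.fix (hp t) (self_mem_rt 1 i),
    fun t => H.fix (hm t) (self_mem_rt (s i) i), fun y hy hne => ?_, fun y hy hne => ?_⟩
  · obtain ⟨g, hg, h⟩ := H.trans 1 i (σ (s i)) y e1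
      (Δ.δ_eq_of_mem_Pan (Δ.self_mem_Pan _ _) hy (Ne.symm hne))
    obtain ⟨t, rfl⟩ := hp' g hg
    exact ⟨t, h⟩
  · obtain ⟨g, hg, h⟩ := H.trans (s i) i (σ 1) y e2 (Δ.δ_eq_of_mem_Pan hs hy (Ne.symm hne))
    obtain ⟨t, rfl⟩ := hm' g hg
    exact ⟨t, h⟩

end Sys

/-! ### The isometry group -/

section Inst

variable [Finite I] [Finite W] {σ : W → C}

/-- The root groups as subgroups of `Aut Δ`. -/
def UU (Δ : Bldg cs C) (σ : W → C) (R : Set W) : Subgroup (Aut Δ) :=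
  (MouDefs.U Δ σ R).subgroupOf (Aut Δ)

theorem smul_eq (g : Aut Δ) (x : C) : g • x = (g : Equiv.Perm C) x := rfl

/-- The Moufang property holds for `Aut Δ`. -/
theorem sys [Finite C] (hth : Δ.Thick) (hext : Ext Δ Δ) (hc : Comb cs) (hσ : Chart Δ σ) :
    Sys Δ (Aut Δ) σ (UU Δ σ) where
  iso g x y := g.2 x y
  faith g h := Subtype.ext (Equiv.ext h)
  thick := hth
  chart := hσ
  mem w i g := by
    rw [UU, Subgroup.mem_subgroupOf, MouDefs.mem_U]
    exact ⟨fun h => ⟨h.2.1, h.2.2⟩, fun h => ⟨g.2, h.1, h.2⟩⟩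
  trans w i y y' hy hy' := by
    obtain ⟨g, hg, h⟩ := Mou.exists_root_elt' hth hext hc hσ (v := w) (i := i) (x := y) (x' := y')
      (Or.inr hy) (Δ.ne_of_δ_simple hy).symm (Or.inr hy') (Δ.ne_of_δ_simple hy').symm
    exact ⟨⟨g, hg.1⟩, hg, h⟩
  free w i g hg h := Subtype.ext (Mou.eq_one_of_fix_step hth hc hσ hg h)
  weyl i := by
    obtain ⟨z, z', hzz, hz, hz'⟩ := hth (σ 1) i
    obtain ⟨t, ht, htn⟩ : ∃ t, Δ.δ (σ 1) t = cs.simple i ∧ t ≠ σ (1 * cs.simple i) := by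
      by_cases h : z = σ (1 * cs.simple i)
      · exact ⟨z', hz', fun h' => hzz (h.trans h'.symm)⟩
      · exact ⟨z, hz, h⟩
    obtain ⟨g, hg, h⟩ := Mou.exists_root_elt hth hext hc hσ (v := 1) (i := i) (x := t)
      (Or.inr ht) (Δ.ne_of_δ_simple ht).symm
    have hg1 : g ≠ 1 := by
      rintro rfl
      exact htn h.symm
    obtain ⟨b, hb, b', hb', hr⟩ := Mou.exists_refl hth hext hc hσ hg hg1
    rw [one_mul] at hb hb'
    have m1 : (⟨g, hg.1⟩ : Aut Δ) ∈ Lg cs (UU Δ σ) i :=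
      (le_sup_left : UU Δ σ (rt cs 1 i) ≤ _) hg
    have m2 : (⟨b, hb.1⟩ : Aut Δ) ∈ Lg cs (UU Δ σ) i :=
      (le_sup_right : UU Δ σ (rt cs (cs.simple i) i) ≤ _) hb
    have m3 : (⟨b', hb'.1⟩ : Aut Δ) ∈ Lg cs (UU Δ σ) i :=
      (le_sup_right : UU Δ σ (rt cs (cs.simple i) i) ≤ _) hb'
    refine ⟨⟨b, hb.1⟩ * ⟨g, hg.1⟩ * ⟨b', hb'.1⟩, mul_mem (mul_mem m2 m1) m3, fun v => ?_⟩
    have := hr v
    rw [one_mul, inv_one, mul_one] at this
    exact this

end Inst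

end Cfsg.Agent.Tits.MouOut
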